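import Cfsg.Agent.C6Units.Five

/-!
A big triple puts every unit vector into the group (helper32).
-/

set_option autoImplicit false
set_option linter.unusedSectionVars false
set_option linter.style.haveILetI false
set_option linter.unusedSimpArgs false

namespace Cfsg.Agent.C6Units

open Matrix

variable {F : Type*} [Field F] [Fintype F] {ι : Type*} [Fintype ι] [DecidableEq ι] [Nonempty ι]

theorem rep_two (h2 : (2 : F) ≠ 0) {s r : F} (hs : s ≠ 0) : ∃ x y : F, x * x + s * (y * y) = r := by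
  have hodd : Fintype.card F % 2 = 1 := by
    refine FiniteField.odd_card_of_char_ne_two fun h => h2 ?_
    haveI := ringChar.of_eq h
    exact CharTwo.two_eq_zero
  obtain ⟨x, y, h⟩ := FiniteField.exists_root_sum_quadratic (R := F) (f := Polynomial.X ^ 2)
    (g := Polynomial.C s * Polynomial.X ^ 2 - Polynomial.C r) (Polynomial.degree_X_pow 2)
    (by
      rw [Polynomial.degree_sub_eq_left_of_degree_lt, Polynomial.degree_C_mul_X_pow 2 hs]
      · rfl
      rw [Polynomial.degree_C_mul_X_pow 2 hs]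
      exact lt_of_le_of_lt Polynomial.degree_C_le (by norm_num))
    hodd
  exact ⟨x, y, by simp at h; linear_combination h⟩

variable {C : Cl F 5 ι} {M : Subgroup (GL ι F)} (O : Over C M)
include O

omit [Nonempty ι] O in
theorem cyc3_cube {a b c : Fin 5} (hab : a ≠ b) (hbc : b ≠ c) (hac : a ≠ c) (x : Fin 5 → F) :
    cyc3 a b c (cyc3 a b c (cyc3 a b c x)) = x := by
  funext j
  simp only [cyc3]
  congr 1
  by_cases h1 : j = a
  · simp [h1, hab.symm, hac.symm, hbc.symm]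
  by_cases h2 : j = b
  · simp [h2, hab.symm, hac.symm, hbc.symm]
  by_cases h3 : j = c
  · simp [h3, hab.symm, hac.symm, hbc.symm]
  · simp [h1, h2, h3]

omit [Nonempty ι] O in
theorem cyc3_dot {a b c : Fin 5} (hab : a ≠ b) (hbc : b ≠ c) (hac : a ≠ c) (x : Fin 5 → F) :
    cyc3 a b c x ⬝ᵥ cyc3 a b c x = x ⬝ᵥ x := by
  obtain ⟨d, e, h⟩ := exists_five hab hac hbc
  obtain ⟨p1, p2, p3, p4⟩ := cyc3_apply hab hbc hac x
  rw [h.dot, h.dot, p1, p2, p3, p4 d h.ad.symm h.bd.symm h.cd.symm, p4 e h.ae.symm h.be.symm h.ce.symm]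
  ring

theorem cyc_iff {a b c : Fin 5} (hab : a ≠ b) (hbc : b ≠ c) (hac : a ≠ c) {x : Fin 5 → F}
    (h : cyc3 a b c x ∈ units C M) : x ∈ units C M := by
  rw [← cyc3_cube hab hbc hac x]
  exact O.cyc_mem (O.cyc_mem h hab hbc hac) hab hbc hac

/-- Two coordinates may be moved to two given positions. -/
theorem move {x y : Fin 5} (hxy : x ≠ y) {d e : Fin 5} (hde : d ≠ e) (u : Fin 5 → F) :
    ∃ v, v ⬝ᵥ v = u ⬝ᵥ u ∧ v d = u x ∧ v e = u y ∧ (v ∈ units C M → u ∈ units C M) := by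
  -- first `y ↦ e`
  obtain ⟨u₁, x₁, h1, hd1, hx1, hy1, hne, hback⟩ : ∃ u₁ x₁, u₁ ⬝ᵥ u₁ = u ⬝ᵥ u ∧ u₁ x₁ = u x ∧ x₁ ≠ e ∧
      u₁ e = u y ∧ True ∧ (u₁ ∈ units C M → u ∈ units C M) := by
    by_cases hye : y = e
    · exact ⟨u, x, rfl, rfl, hye ▸ hxy, by rw [hye], trivial, id⟩
    obtain ⟨z, hzy, hze, hzx⟩ : ∃ z : Fin 5, z ≠ y ∧ z ≠ e ∧ z ≠ x := by
      clear hxy hye hde; revert x y e; decide
    obtain ⟨p1, p2, p3, p4⟩ := cyc3_apply hye hze.symm hzy.symm u
    by_cases hxe : x = e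
    · exact ⟨_, z, cyc3_dot hye hze.symm hzy.symm u, by rw [p3, hxe], hze, p2, trivial,
        cyc_iff O hye hze.symm hzy.symm⟩
    · exact ⟨_, x, cyc3_dot hye hze.symm hzy.symm u, p4 x hxy hxe hzx.symm, hxe, p2, trivial,
        cyc_iff O hye hze.symm hzy.symm⟩
  -- then `x₁ ↦ d`, fixing `e`
  by_cases hxd : x₁ = d
  · exact ⟨u₁, h1, hxd ▸ hd1, hy1, hback⟩
  obtain ⟨z, hzx, hzd, hze⟩ : ∃ z : Fin 5, z ≠ x₁ ∧ z ≠ d ∧ z ≠ e := by
    clear hxd hd1 hx1 hde hy1 hback hne h1; revert x₁ d e; decide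
  obtain ⟨p1, p2, p3, p4⟩ := cyc3_apply hxd hzd.symm hzx.symm u₁
  exact ⟨_, (cyc3_dot hxd hzd.symm hzx.symm u₁).trans h1, by rw [p2, hd1],
    by rw [p4 e hx1.symm hde.symm hze.symm, hy1], fun h => hback (cyc_iff O hxd hzd.symm hzx.symm h)⟩

section Triple

variable {a b c d e : Fin 5} (h : Five a b c d e) (hB : BigTriple C M a b c)
include h hB

theorem unit_of_two_zero {u : Fin 5 → F} (hu : u ⬝ᵥ u = 1) (hd : u d = 0) (he : u e = 0) :
    u ∈ units C M := by
  rw [h.dot, hd, he] at hu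
  have hn : qnorm ![u c, 0, u b, u a] = 1 := by simp [qnorm]; linear_combination hu
  obtain ⟨g, hg, eg⟩ := hB _ hn
  obtain ⟨x, hx, ex⟩ := O.mem c
  refine ⟨by rw [h.dot, hd, he]; linear_combination hu, g * x, mul_mem hg hx, ?_⟩
  rw [Units.val_mul, eg, ex, Cl.w, h.sum, hd, he, zero_smul, zero_smul, add_zero, add_zero]
  simp only [Qa, Matrix.cons_val_zero, Matrix.cons_val_one, Matrix.cons_val, zero_smul, add_zero, add_mul,
    Matrix.smul_mul, one_mul, mul_assoc, C.sq, mul_one]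
  abel

/-- A rotation of the triple. -/
theorem rotate {u : Fin 5 → F} (hu : u ⬝ᵥ u = 1) (hσ : u a * u a + u b * u b + u c * u c ≠ 0) :
    ∃ v, v ⬝ᵥ v = 1 ∧ v a = 0 ∧ v d = u d ∧ v e = u e ∧ (v ∈ units C M → u ∈ units C M) := by
  have h2 := C.h2
  set σ := u a * u a + u b * u b + u c * u c with hσd
  obtain ⟨x, y, hxy⟩ := rep_two h2 (one_ne_zero (α := F)) (r := σ)
  rw [one_mul] at hxy
  obtain ⟨vb, vc, hv, hne⟩ : ∃ vb vc : F, vb * vb + vc * vc = σ ∧ σ + (vb * u b + vc * u c) ≠ 0 := by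
    by_cases h0 : σ + (x * u b + y * u c) = 0
    · refine ⟨-x, -y, by linear_combination hxy, fun h1 => ?_⟩
      exact mul_ne_zero h2 hσ (by linear_combination h0 + h1)
    · exact ⟨x, y, hxy, h0⟩
  -- the target and the rotor from it
  set v : Fin 5 → F := fun j => if j = a then 0 else if j = b then vb else if j = c then vc else u j with hvd
  have va : v a = 0 := by simp [hvd]
  have vb' : v b = vb := by simp [hvd, h.ab.symm]
  have vc' : v c = vc := by simp [hvd, h.ac.symm, h.bc.symm]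
  have vd : v d = u d := by simp [hvd, h.ad.symm, h.bd.symm, h.cd.symm]
  have ve : v e = u e := by simp [hvd, h.ae.symm, h.be.symm, h.ce.symm]
  have hv1 : v ⬝ᵥ v = 1 := by
    rw [← hu, h.dot, h.dot, va, vb', vc', vd, ve]; linear_combination hv + hσd
  refine ⟨v, hv1, va, vd, ve, fun hmem => ?_⟩
  set qu : Fin 4 → F := ![u c, 0, u b, u a] with hqu
  set qv : Fin 4 → F := ![vc, 0, vb, 0] with hqv
  set t₁ : Fin 4 → F := ![σ + (u c * vc + u b * vb), u b * 0 * 0 + (qmul qu ![vc, 0, -vb, 0]) 1,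
    (qmul qu ![vc, 0, -vb, 0]) 2, (qmul qu ![vc, 0, -vb, 0]) 3] with ht₁
  have hN1 : qnorm t₁ = 2 * σ * (σ + (vb * u b + vc * u c)) := by
    simp [qnorm, ht₁, qmul, hqu]
    linear_combination σ * hv + (- hσd) * (vb * vb + vc * vc)
  have hN0 : qnorm t₁ ≠ 0 := by rw [hN1]; exact mul_ne_zero (mul_ne_zero h2 hσ) hne
  obtain ⟨X, Y, hXY⟩ := rep_two h2 hσ (r := (qnorm t₁)⁻¹)
  set t₂ : Fin 4 → F := ![X, Y * vc, 0, -(Y * vb)] with ht₂
  set t := qmul t₁ t₂ with ht
  have hnt : qnorm t = 1 := by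
    have hN2 : qnorm t₂ = X * X + σ * (Y * Y) := by
      simp [qnorm, ht₂]; linear_combination Y * Y * hv
    rw [ht, qnorm_mul, hN2, hXY]
    exact mul_inv_cancel₀ hN0
  obtain ⟨g, hg, eg⟩ := hB t hnt
  -- the equation in quaternions
  have q2 : qmul t₂ qv = qmul qv ![t₂ 0, t₂ 1, -t₂ 2, -t₂ 3] := by
    funext i; fin_cases i <;> simp [qmul, ht₂, hqv] <;> ring
  have q1 : qmul t₁ qv = qmul qu ![t₁ 0, t₁ 1, -t₁ 2, -t₁ 3] := by
    funext i; fin_cases i <;> simp [qmul, ht₁, hqv, hqu]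
    · linear_combination (u c) * hv - vc * (-hσd)
    · ring
    · linear_combination (u b) * hv - vb * (-hσd)
    · linear_combination (u a) * hv
  have hq : qmul t qv = qmul qu ![t 0, t 1, -t 2, -t 3] := by
    have assoc : ∀ p q r : Fin 4 → F, qmul (qmul p q) r = qmul p (qmul q r) := fun p q r => by
      funext i; fin_cases i <;> simp [qmul] <;> ring
    have tw : ![t 0, t 1, -t 2, -t 3] =
        qmul ![t₁ 0, t₁ 1, -t₁ 2, -t₁ 3] ![t₂ 0, t₂ 1, -t₂ 2, -t₂ 3] := by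
      funext i; fin_cases i <;> simp [qmul, ht] <;> ring
    rw [tw, ht, assoc, q2, ← assoc, q1, assoc]
  obtain ⟨r1, r2, r3⟩ := triple_rel (C := C) h.ab h.bc h.ac
  have wT : ∀ z : Fin 5 → F, C.w z = Qa (C.G a * C.G b) (C.G b * C.G c) ![z c, 0, z b, z a] * C.G c +
      (z d • C.G d + z e • C.G e) := by
    intro z
    rw [Cl.w, h.sum]
    simp only [Qa, Matrix.cons_val_zero, Matrix.cons_val_one, Matrix.cons_val, zero_smul, add_zero, add_mul,
      Matrix.smul_mul, one_mul, mul_assoc, C.sq, mul_one]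
    abel
  -- commutation with the three outer vectors
  have comm : ∀ {i j k : Fin 5}, k ≠ i → k ≠ j → C.G i * C.G j * C.G k = C.G k * (C.G i * C.G j) :=
    fun {i j k} hi hj => by
      rw [mul_assoc, C.anti j k hj.symm, mul_neg, ← mul_assoc, C.anti i k hi.symm, neg_mul, neg_neg, mul_assoc]
  have outer : ∀ {k : Fin 5}, k ≠ a → k ≠ b → k ≠ c → ∀ q : Fin 4 → F,
      Qa (C.G a * C.G b) (C.G b * C.G c) q * C.G k = C.G k * Qa (C.G a * C.G b) (C.G b * C.G c) q := by
    intro k ka kb kc q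
    simp only [Qa, add_mul, mul_add, Matrix.smul_mul, Matrix.mul_smul, one_mul, mul_one, comm ka kb, comm kb kc]
    rw [mul_assoc (C.G a * C.G b), comm kb kc, ← mul_assoc (C.G a * C.G b) (C.G k), comm ka kb, mul_assoc (C.G k)]
  have twist : ∀ q : Fin 4 → F, C.G c * Qa (C.G a * C.G b) (C.G b * C.G c) q =
      Qa (C.G a * C.G b) (C.G b * C.G c) ![q 0, q 1, -q 2, -q 3] * C.G c := by
    intro q
    have e1 : C.G a * C.G b * C.G c = C.G c * (C.G a * C.G b) := comm h.ac.symm h.bc.symm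
    have e2 : C.G c * (C.G b * C.G c) = -(C.G b * C.G c * C.G c) := by
      rw [← mul_assoc, C.anti c b h.bc.symm, neg_mul]
    simp only [Qa, Matrix.cons_val_zero, Matrix.cons_val_one, Matrix.cons_val, add_mul, mul_add, Matrix.smul_mul,
      Matrix.mul_smul, one_mul, mul_one, neg_smul, neg_mul]
    rw [← mul_assoc (C.G c) (C.G a * C.G b), ← e1, mul_assoc _ (C.G c), e2, mul_neg, ← mul_assoc]
    simp only [smul_neg, ← mul_assoc]
  refine O.map_mem hg hmem (c' := u) ?_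
  rw [eg, wT v, wT u, mul_add, add_mul, ← mul_assoc, Qa_mul r1 r2 r3, vc', vb', va, vd, ve]
  congr 1
  · rw [show qmul t ![vc, 0, vb, 0] = qmul t qv from rfl, hq, mul_assoc (Qa _ _ _) (C.G c), twist, ← mul_assoc,
      Qa_mul r1 r2 r3]
  · rw [mul_add, add_mul, Matrix.mul_smul, Matrix.mul_smul, Matrix.smul_mul, Matrix.smul_mul,
      outer h.ad.symm h.bd.symm h.cd.symm, outer h.ae.symm h.be.symm h.ce.symm]

/-- **A big triple gives all units.** -/
theorem all_units (h3 : (3 : F) ≠ 0) {u : Fin 5 → F} (hu : u ⬝ᵥ u = 1) : u ∈ units C M := by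
  -- two zeros
  have two : ∀ {w : Fin 5 → F} {x y : Fin 5}, w ⬝ᵥ w = 1 → x ≠ y → w x = 0 → w y = 0 → w ∈ units C M := by
    intro w x y hw hxy hx hy
    obtain ⟨v, hv, vd, ve, back⟩ := move O hxy h.de w
    exact back (unit_of_two_zero O h hB (hv.trans hw) (vd.trans hx) (ve.trans hy))
  -- one zero
  have one : ∀ {w : Fin 5 → F} {l : Fin 5}, w ⬝ᵥ w = 1 → w l = 0 → w ∈ units C M := by
    intro w l hw hl
    obtain ⟨x, hxl, hx⟩ : ∃ x, x ≠ l ∧ w x * w x ≠ 1 := by
      by_contra hc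
      push Not at hc
      obtain ⟨p, q, hp, hq, hpq⟩ : ∃ p q : Fin 5, p ≠ l ∧ q ≠ l ∧ p ≠ q := by clear hl hc; revert l; decide
      obtain ⟨r, s, hh⟩ := exists_five hp.symm hq.symm hpq
      rw [hh.dot, hl, hc p hp, hc q hq, hc r hh.ad.symm, hc s hh.ae.symm] at hw
      exact h3 (by linear_combination hw)
    obtain ⟨v, hv, vd, ve, back⟩ := move O hxl h.de w
    have hv1 := hv.trans hw
    refine back ?_
    obtain ⟨v', h1, va, -, ve', back'⟩ := rotate O h hB hv1 (fun h0 => hx (by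
      rw [h.dot, ve, hl, vd] at hv1
      linear_combination hv1 - h0))
    exact back' (two h1 h.ae va (ve'.trans (ve.trans hl)))
  obtain ⟨x, y, hxy, hsq⟩ : ∃ x y : Fin 5, x ≠ y ∧ u x * u x + u y * u y ≠ 1 := by
    by_contra hc
    push Not at hc
    rw [h.dot] at hu
    have e1 := hc a b h.ab
    have e2 := hc c d h.cd
    have e3 := hc a e h.ae
    have e4 := hc b e h.be
    have he : 2 * (u e * u e) = 1 := by linear_combination e3 + e4 - e1
    exact h3 (by linear_combination 2 * hu - 2 * e1 - 2 * e2 - he)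
  obtain ⟨v, hv, vd, ve, back⟩ := move O hxy h.de u
  have hv1 := hv.trans hu
  refine back ?_
  obtain ⟨v', h1, va, -, -, back'⟩ := rotate O h hB hv1 (fun h0 => hsq (by
    rw [h.dot, ve, vd] at hv1
    linear_combination hv1 - h0))
  exact back' (one h1 va)

end Triple

end Cfsg.Agent.C6Units
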