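import Cfsg.Agent.C6Units.Class
import Cfsg.Agent.C6Units.Full
import Cfsg.Agent.C6Dim4.Sp
import Cfsg.Agent.Lib.Symplectic.Perfect
import Cfsg.Agent.Lib.Symplectic.Simple
import Cfsg.Agent.Aschbacher.Symp.Six

/-!
The normaliser of `2^{1+4}` of minus type is maximal in `Sp₄(p)` (helper32).
-/

set_option autoImplicit false
set_option linter.unusedSectionVars false
set_option linter.style.haveILetI false
set_option linter.unusedSimpArgs false

open Matrix

namespace Cfsg.Agent.C6Units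

open Cfsg.Agent.C6Dim4 (IsSc mem_sp)

variable {F : Type*} [Field F] [Fintype F]

local notation "ι₄" => Fin 2 ⊕ Fin 2
local notation "𝐉" => Matrix.J (Fin 2) F
local notation "M₄" => Matrix (Fin 2 ⊕ Fin 2) (Fin 2 ⊕ Fin 2) F

theorem zmod_three : ∀ u : ZMod 3, u = 0 ∨ u = 1 ∨ u = -1 := by decide

/-- The family of a frame. -/
def clOf {R : Subgroup (GL ι₄ F)} (Φ : C6Dim4.Frame R) : Cl F 5 ι₄ where
  G i := (Φ.γ i : M₄)
  h2 := Φ.h2
  sq i := by rw [← Units.val_mul, Φ.sq, Units.val_one]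
  anti i j h := by rw [← Units.val_mul, Φ.anti i j h, Units.val_neg, Units.val_mul]

/-- Self-adjointness. -/
def SA (X : M₄) : Prop := Xᵀ * 𝐉 = 𝐉 * X

theorem sa_gamma {R : Subgroup (GL ι₄ F)} (Φ : C6Dim4.Frame R) (hR : R ≤ spGL 2 F) (i : Fin 5) :
    SA ((clOf Φ).G i) := by
  have h := mem_sp.1 (hR (Φ.mem i))
  have := congrArg (· * (Φ.γ i : M₄)) h
  simp only [mul_assoc] at this
  rwa [← Units.val_mul, Φ.sq, Units.val_one, mul_one] at this

theorem sa_w {R : Subgroup (GL ι₄ F)} (Φ : C6Dim4.Frame R) (hR : R ≤ spGL 2 F) (c : Fin 5 → F) :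
    SA ((clOf Φ).w c) := by
  simp only [SA, Cl.w, Matrix.transpose_sum, Finset.sum_mul, Finset.mul_sum, Matrix.transpose_smul, Matrix.smul_mul,
    Matrix.mul_smul]
  exact Finset.sum_congr rfl fun i _ => by rw [sa_gamma Φ hR i]

theorem sa_conj {g : GL ι₄ F} (hg : g ∈ spGL 2 F) {X : M₄} (hX : SA X) :
    SA ((g : M₄) * X * ((g⁻¹ : GL ι₄ F) : M₄)) := by
  have h := mem_sp.1 hg
  have h' := mem_sp.1 (inv_mem hg)
  set gi := ((g⁻¹ : GL ι₄ F) : M₄) with hgi
  have e1 : (g : M₄)ᵀ * 𝐉 = 𝐉 * gi := by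
    have := congrArg (· * gi) h
    simpa [mul_assoc, hgi] using this
  have e2 : giᵀ * 𝐉 = 𝐉 * (g : M₄) := by
    have := congrArg (· * (g : M₄)) h'
    simpa [mul_assoc, hgi] using this
  show ((g : M₄) * X * gi)ᵀ * 𝐉 = _
  rw [transpose_mul, transpose_mul, mul_assoc, mul_assoc, e1, ← mul_assoc Xᵀ, hX, ← mul_assoc, ← mul_assoc,
    e2]
  simp only [mul_assoc]

theorem trace_w {R : Subgroup (GL ι₄ F)} (Φ : C6Dim4.Frame R) (c : Fin 5 → F) :
    ((clOf Φ).w c).trace = 0 := by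
  simp only [Cl.w, Matrix.trace_sum, Matrix.trace_smul]
  refine Finset.sum_eq_zero fun i _ => ?_
  obtain ⟨j, hj⟩ : ∃ j, j ≠ i := exists_ne i
  rw [show ((clOf Φ).G i).trace = 0 from C6Dim4.trace_eq_zero Φ.h2 (Φ.anti i j hj.symm), smul_zero]

/-- Self-adjoint matrices of trace zero lie in the span of the family. -/
theorem sa_span {R : Subgroup (GL ι₄ F)} (Φ : C6Dim4.Frame R) (hR : R ≤ spGL 2 F) {X : M₄} (hX : SA X)
    (ht : X.trace = 0) : ∃ c, X = (clOf Φ).w c := by
  set C := clOf Φ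
  have h2 := Φ.h2
  let L : M₄ →ₗ[F] (Fin 6 → F) :=
    { toFun := fun Y => ![Y (.inl 0) (.inl 0), Y (.inl 0) (.inl 1), Y (.inl 1) (.inl 0), Y (.inl 1) (.inl 1),
        Y (.inl 0) (.inr 1), Y (.inr 0) (.inl 1)]
      map_add' := fun Y Z => by funext i; fin_cases i <;> rfl
      map_smul' := fun a Y => by funext i; fin_cases i <;> rfl }
  have hL : ∀ Y : M₄, SA Y → L Y = 0 → Y = 0 := by
    intro Y hY h0
    have z := fun i => congrFun h0 i
    have z0 := z 0; have z1 := z 1; have z2 := z 2; have z3 := z 3; have z4 := z 4; have z5 := z 5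
    simp [L] at z0 z1 z2 z3 z4 z5
    have e := fun i j => congrFun (congrFun hY i) j
    simp only [Matrix.mul_apply, Matrix.transpose_apply, Fintype.sum_sum_type, Fin.sum_univ_two, Matrix.J,
      Matrix.fromBlocks_apply₁₁, Matrix.fromBlocks_apply₁₂, Matrix.fromBlocks_apply₂₁, Matrix.fromBlocks_apply₂₂] at e
    have a1 := e (.inl 0) (.inl 0); have a2 := e (.inl 1) (.inl 1); have a3 := e (.inl 0) (.inl 1)
    have b1 := e (.inr 0) (.inr 0); have b2 := e (.inr 1) (.inr 1); have b3 := e (.inr 0) (.inr 1)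
    have c1 := e (.inl 0) (.inr 0); have c2 := e (.inl 0) (.inr 1); have c3 := e (.inl 1) (.inr 0)
    have c4 := e (.inl 1) (.inr 1)
    simp [Matrix.one_apply, z0, z1, z2, z3, z4, z5] at a1 a2 a3 b1 b2 b3 c1 c2 c3 c4
    have half : ∀ {t : F}, t = -t → t = 0 := fun {t} ht =>
      (mul_eq_zero.mp (show (2 : F) * t = 0 by linear_combination ht)).resolve_left h2
    ext i j
    rcases i with i | i <;> rcases j with j | j <;> fin_cases i <;> fin_cases j <;>
      simp only [Fin.zero_eta, Fin.isValue, Fin.mk_one, Matrix.zero_apply] <;>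
      first
        | assumption
        | exact half (by first | linear_combination a1 | linear_combination -a1)
        | exact half (by first | linear_combination a2 | linear_combination -a2)
        | exact half (by first | linear_combination b1 | linear_combination -b1)
        | exact half (by first | linear_combination b2 | linear_combination -b2)
  let T : ((Fin 5 → F) × F) →ₗ[F] M₄ :=
    { toFun := fun q => C.w q.1 + q.2 • 1
      map_add' := fun q r => by simp [C.w_add, add_smul]; abel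
      map_smul' := fun a q => by simp [C.w_smul, smul_smul] }
  have hTsa : ∀ q, SA (T q) := fun q => by
    show (C.w q.1 + q.2 • (1 : M₄))ᵀ * 𝐉 = 𝐉 * (C.w q.1 + q.2 • (1 : M₄))
    rw [transpose_add, add_mul, mul_add, sa_w Φ hR, transpose_smul, transpose_one]
    simp [C]
  have hinj : Function.Injective (L ∘ₗ T) := by
    rw [injective_iff_map_eq_zero]
    intro q hq
    have h0 : C.w q.1 + q.2 • (1 : M₄) = 0 := hL _ (hTsa q) hq
    have hk : q.2 = 0 := by
      have := congrArg Matrix.trace h0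
      rw [Matrix.trace_add, trace_w, Matrix.trace_smul, Matrix.trace_one, zero_add, Matrix.trace_zero, smul_eq_mul,
        mul_eq_zero] at this
      refine this.resolve_right ?_
      simp [show (4 : F) = 2 * 2 by norm_num, h2]
    rw [hk, zero_smul, add_zero] at h0
    exact Prod.ext (C.w_eq_zero h0) hk
  have hsurj : Function.Surjective (L ∘ₗ T) :=
    (LinearMap.injective_iff_surjective_of_finrank_eq_finrank (by simp)).mp hinj
  obtain ⟨q, hq⟩ := hsurj (L X)
  have hX' : X = C.w q.1 + q.2 • (1 : M₄) := by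
    refine sub_eq_zero.mp (hL _ ?_ ?_)
    · show (X - T q)ᵀ * 𝐉 = 𝐉 * (X - T q)
      rw [transpose_sub, sub_mul, mul_sub, hX, hTsa q]
    · rw [map_sub, ← hq]; exact sub_self _
  have hk : q.2 = 0 := by
    rw [hX', Matrix.trace_add, trace_w, Matrix.trace_smul, Matrix.trace_one, zero_add, smul_eq_mul, mul_eq_zero] at ht
    refine ht.resolve_right ?_
    simp [show (4 : F) = 2 * 2 by norm_num, h2]
  exact ⟨q.1, by rw [hX', hk, zero_smul, add_zero]⟩

section Overgroup

variable {R : Subgroup (GL ι₄ F)} (Φ : C6Dim4.Frame R) (hR : R ≤ spGL 2 F)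
variable {M : Subgroup (GL ι₄ F)} (hNM : Geo.subgroupNormalizer R ⊓ spGL 2 F ≤ M) (hM : M ≤ spGL 2 F)
include Φ hR hNM hM

theorem over_of : Over (clOf Φ) M where
  mem i := ⟨Φ.γ i, hNM ⟨Subgroup.le_normalizer (Φ.mem i), hR (Φ.mem i)⟩, rfl⟩
  neg := hNM ⟨Subgroup.le_normalizer Φ.neg, hR Φ.neg⟩
  cyc a b c hab hbc _ := by
    have h1 := Φ.pair_sq hab
    have h2 := Φ.pair_sq hbc
    set g := C6Dim4.scU ι₄ (Units.mk0 (2 : F)⁻¹ (inv_ne_zero Φ.h2)) * C6Dim4.ga Φ.h2 _ h1 * C6Dim4.ga Φ.h2 _ h2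
    have eg : (g : M₄) = (2 : F)⁻¹ • ((1 + (clOf Φ).G a * (clOf Φ).G b) * (1 + (clOf Φ).G b * (clOf Φ).G c)) := by
      simp [g, clOf, mul_assoc]
    refine ⟨g, hNM ⟨mul_mem (mul_mem (Φ.scU_mem _) (Φ.ga_mem (mul_mem (Φ.mem a) (Φ.mem b)) _))
      (Φ.ga_mem (mul_mem (Φ.mem b) (Φ.mem c)) _), mem_sp.2 ?_⟩, eg⟩
    have hga : ∀ {x : GL ι₄ F} (hx : x ∈ R) (hxx : x * x = -1),
        (C6Dim4.ga Φ.h2 x hxx : M₄)ᵀ * 𝐉 * (C6Dim4.ga Φ.h2 x hxx : M₄) = (2 : F) • 𝐉 := by
      intro x hx hxx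
      have h := mem_sp.1 (hR hx)
      have hx2 : (x : M₄) * x = -1 := by rw [← Units.val_mul, hxx, Units.val_neg, Units.val_one]
      have h1 : (x : M₄)ᵀ * 𝐉 = -(𝐉 * (x : M₄)) := by
        have e := congrArg (· * (x : M₄)) h
        simp only [mul_assoc, hx2, mul_neg, mul_one] at e
        rw [← e, neg_neg]
      rw [C6Dim4.coe_ga, transpose_add, transpose_one]
      simp only [add_mul, mul_add, one_mul, mul_one, h1, neg_mul, mul_assoc, hx2, mul_neg, neg_neg, two_smul]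
      abel
    rw [Units.val_mul, Units.val_mul, C6Dim4.coe_scU, Units.val_mk0, Matrix.smul_mul, one_mul, Matrix.smul_mul,
      transpose_smul, transpose_mul]
    simp only [Matrix.smul_mul, Matrix.mul_smul]
    have key : ∀ A B : M₄, Aᵀ * 𝐉 * A = (2 : F) • 𝐉 → Bᵀ * 𝐉 * B = (2 : F) • 𝐉 →
        Bᵀ * Aᵀ * 𝐉 * (A * B) = ((2 : F) * 2) • 𝐉 := fun A B hA hB => by
      rw [show Bᵀ * Aᵀ * 𝐉 * (A * B) = Bᵀ * (Aᵀ * 𝐉 * A) * B by simp only [mul_assoc], hA, Matrix.mul_smul,
        Matrix.smul_mul, hB, smul_smul]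
    rw [key _ _ (hga (mul_mem (Φ.mem a) (Φ.mem b)) h1) (hga (mul_mem (Φ.mem b) (Φ.mem c)) h2), smul_smul, smul_smul,
      show (2 : F)⁻¹ * (2 : F)⁻¹ * (2 * 2) = 1 by
        rw [mul_mul_mul_comm, inv_mul_cancel₀ Φ.h2, mul_one], one_smul]
  span g hg c := by
    obtain ⟨c', hc'⟩ := sa_span Φ hR (sa_conj (hM hg) (sa_w Φ hR c)) (by rw [Matrix.trace_units_conj, trace_w])
    exact ⟨c', by rw [← hc', mul_assoc, Units.inv_mul, mul_one]⟩
  scal g hg s hs := by
    have h := mem_sp.1 (hM hg)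
    rw [hs] at h
    have h' := congrFun (congrFun h (Sum.inr 0)) (Sum.inl 0)
    simp [Matrix.J, smul_smul] at h'
    exact mul_self_eq_one_iff.1 h'

/-- All unit vectors give the whole group. -/
theorem top_of_units (hp5 : 3 ≤ Fintype.card F) (hall : ∀ c : Fin 5 → F, c ⬝ᵥ c = 1 → c ∈ units (clOf Φ) M) :
    spGL 2 F ≤ M := by
  classical
  set C := clOf Φ
  have O := over_of Φ hR hNM hM
  let K : Subgroup (GL ι₄ F) := Subgroup.closure {g | ∃ c : Fin 5 → F, c ⬝ᵥ c = 1 ∧ (g : M₄) = C.w c}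
  have hKM : K ≤ M := (Subgroup.closure_le _).mpr fun g ⟨c, hc, e⟩ => by
    obtain ⟨-, x, hx, ex⟩ := hall c hc
    rwa [show g = x from Units.ext (e.trans ex.symm)]
  have hconj : ∀ h ∈ spGL 2 F, ∀ k ∈ K, h * k * h⁻¹ ∈ K := by
    intro h hh k hk
    induction hk using Subgroup.closure_induction with
    | mem x hx =>
      obtain ⟨c, hc, e⟩ := hx
      obtain ⟨c', hc'⟩ := sa_span Φ hR (sa_conj hh (sa_w Φ hR c)) (by rw [Matrix.trace_units_conj, trace_w])
      have hd : c' ⬝ᵥ c' = c ⬝ᵥ c := O.dot_map (g := h) (by rw [← hc', mul_assoc, Units.inv_mul, mul_one])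
        (by rw [← hc', mul_assoc, Units.inv_mul, mul_one])
      exact Subgroup.subset_closure ⟨c', hd.trans hc, by rw [Units.val_mul, Units.val_mul, e, hc']⟩
    | one => simp [one_mem]
    | mul x y _ _ hx hy => rw [show h * (x * y) * h⁻¹ = (h * x * h⁻¹) * (h * y * h⁻¹) by group]; exact mul_mem hx hy
    | inv x _ hx => rw [show h * x⁻¹ * h⁻¹ = (h * x * h⁻¹)⁻¹ by group]; exact inv_mem hx
  let f : Matrix.symplecticGroup (Fin 2) F →* GL ι₄ F := (Matrix.symplecticGroup (Fin 2) F).subtype.toHomUnits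
  have hf : ∀ A, (f A : M₄) = A.1 := fun A => rfl
  have hfm : ∀ A, f A ∈ spGL 2 F := fun A => mem_sp.2 (SymplecticGroup.mem_iff'.1 A.2)
  haveI hn : (K.comap f).Normal := ⟨fun A hA B => by
    show f (B * A * B⁻¹) ∈ K
    rw [map_mul, map_mul, map_inv]
    exact hconj _ (hfm B) _ hA⟩
  haveI : IsSimpleGroup (Symplectic.Sp 2 F ⧸ Subgroup.center (Symplectic.Sp 2 F)) :=
    Symplectic.isSimpleGroup_PSp le_rfl (Symplectic.commutator_eq_top (Or.inr (Or.inl ⟨rfl, hp5⟩)))
  set π := QuotientGroup.mk' (Subgroup.center (Symplectic.Sp 2 F)) with hπ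
  have hsurj : Function.Surjective π := QuotientGroup.mk'_surjective _
  -- the first involution lies in `K` and is not central
  let A₀ : Symplectic.Sp 2 F := ⟨(Φ.γ 0 : M₄), SymplecticGroup.mem_iff'.2 (mem_sp.1 (hR (Φ.mem 0)))⟩
  have hA₀ : A₀ ∈ K.comap f := Subgroup.subset_closure ⟨Pi.single 0 1, by simp, (C.w_single 0).symm⟩
  have hne : (K.comap f).map π ≠ ⊥ := fun hbot => by
    have h1 : π A₀ = 1 := Subgroup.mem_bot.mp (hbot ▸ Subgroup.mem_map_of_mem _ hA₀)
    have hc := Subgroup.mem_center_iff.mp ((QuotientGroup.eq_one_iff A₀).mp h1)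
      ⟨(Φ.γ 1 : M₄), SymplecticGroup.mem_iff'.2 (mem_sp.1 (hR (Φ.mem 1)))⟩
    have hc' : (Φ.γ 1 : M₄) * Φ.γ 0 = (Φ.γ 0 : M₄) * Φ.γ 1 := congrArg Subtype.val hc
    have h01 := congrArg Units.val (Φ.anti 1 0 (by decide))
    rw [Units.val_neg, Units.val_mul, Units.val_mul, hc'] at h01
    have h0 : Φ.γ 0 * Φ.γ 1 = -(Φ.γ 0 * Φ.γ 1) := Units.ext (by simpa using h01)
    exact C6Dim4.neg_ne_self Φ.h2 _ h0.symm
  haveI := Subgroup.Normal.map hn π hsurj
  have htop : (K.comap f).map π = ⊤ := (Subgroup.Normal.eq_bot_or_eq_top inferInstance).resolve_left hne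
  intro g hg
  let A : Symplectic.Sp 2 F := ⟨(g : M₄), SymplecticGroup.mem_iff'.2 (mem_sp.1 hg)⟩
  obtain ⟨B, hB, hBA⟩ := Subgroup.mem_map.mp (htop ▸ Subgroup.mem_top (π A))
  have hz : B⁻¹ * A ∈ Subgroup.center (Symplectic.Sp 2 F) := QuotientGroup.eq.mp hBA
  obtain ⟨s, hs⟩ : ∃ s : F, ((f (B⁻¹ * A) : GL ι₄ F) : M₄) = s • 1 := by
    refine Φ.comm _ fun v hv => ?_
    have hc := Subgroup.mem_center_iff.mp hz ⟨(v : M₄), SymplecticGroup.mem_iff'.2 (mem_sp.1 (hR hv))⟩
    exact (congrArg Subtype.val hc).symm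
  have h := mem_sp.1 (hfm (B⁻¹ * A))
  rw [hs] at h
  have h' := congrFun (congrFun h (Sum.inr 0)) (Sum.inl 0)
  simp [Matrix.J, smul_smul] at h'
  have hM' : f (B⁻¹ * A) ∈ M := by
    rcases mul_self_eq_one_iff.1 h' with rfl | rfl
    · rw [show f (B⁻¹ * A) = 1 from Units.ext (by rw [hs, one_smul, Units.val_one])]; exact one_mem _
    · rw [show f (B⁻¹ * A) = -1 from Units.ext (by rw [hs, neg_one_smul, Units.val_neg, Units.val_one])]
      exact O.neg
  have e : g = f B * f (B⁻¹ * A) := by rw [← map_mul, mul_inv_cancel_left]; exact Units.ext rfl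
  rw [e]
  exact mul_mem (hKM hB) hM'

/-- Carrying coordinate vectors to coordinate vectors forces normalising. -/
theorem normalises {g : GL ι₄ F} (_hg : g ∈ spGL 2 F)
    (h : ∀ i, ∃ j, g * Φ.γ i * g⁻¹ = Φ.γ j ∨ g * Φ.γ i * g⁻¹ = -Φ.γ j) :
    g ∈ Geo.subgroupNormalizer R := by
  refine C6Dim4.mem_nz fun u hu => ?_
  have hγ : ∀ i, g * Φ.γ i * g⁻¹ ∈ R := fun i => by
    obtain ⟨j, e | e⟩ := h i <;> rw [e]
    · exact Φ.mem j
    · rw [← neg_one_mul]; exact mul_mem Φ.neg (Φ.mem j)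
  have hd : ∀ i, g * Φ.dlt i * g⁻¹ ∈ R := fun i => by
    rw [C6Dim4.Frame.dlt, show g * (Φ.γ (Fin.last 4) * Φ.γ i.castSucc) * g⁻¹ =
      g * Φ.γ (Fin.last 4) * g⁻¹ * (g * Φ.γ i.castSucc * g⁻¹) by group]
    exact mul_mem (hγ _) (hγ _)
  have hz := Φ.decomp hu
  set r := Φ.rep (Φ.sig u) with hr
  have hrc : g * r * g⁻¹ ∈ R := by
    have hp : ∀ (b : Bool) i, g * (if b then Φ.dlt i else 1) * g⁻¹ ∈ R := fun b i => by
      cases b
      · simp [one_mem]
      · exact hd i
    have conj4 : ∀ a b c d : GL ι₄ F,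
        g * (a * b * c * d) * g⁻¹ = (g * a * g⁻¹) * (g * b * g⁻¹) * (g * c * g⁻¹) * (g * d * g⁻¹) :=
      fun a b c d => by group
    rw [hr, C6Dim4.Frame.rep, conj4]
    exact mul_mem (mul_mem (mul_mem (hp _ _) (hp _ _)) (hp _ _)) (hp _ _)
  have hzR : u * r⁻¹ ∈ R := mul_mem hu (inv_mem (Φ.rep_mem _))
  rw [show g * u * g⁻¹ = g * (u * r⁻¹) * g⁻¹ * (g * r * g⁻¹) by group,
    show g * (u * r⁻¹) * g⁻¹ = u * r⁻¹ by rw [← hz.comm, mul_inv_cancel_right]]
  exact mul_mem hzR hrc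

/-- Overgroups of the normaliser. -/
theorem le_or_top {p : ℕ} [Fact p.Prime] [CharP F p] (hF : Fintype.card F = p) (hp : p ≠ 2) :
    M ≤ Geo.subgroupNormalizer R ∨ spGL 2 F ≤ M := by
  classical
  set C := clOf Φ with hC
  have h2 := Φ.h2
  have O := over_of Φ hR hNM hM
  have hp3 : 3 ≤ p := by have := (Fact.out : p.Prime).two_le; omega
  by_cases hcoord : ∀ g ∈ M, ∀ i, ∃ j, g * Φ.γ i * g⁻¹ = Φ.γ j ∨ g * Φ.γ i * g⁻¹ = -Φ.γ j
  · exact Or.inl fun g hg => normalises Φ hR hNM hM (hM hg) (hcoord g hg)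
  push Not at hcoord
  obtain ⟨g, hg, i, hgi⟩ := hcoord
  obtain ⟨r, hr⟩ := O.span g hg (Pi.single i 1)
  have hrU : r ∈ units C M := O.map_mem hg (O.single_mem i) hr
  -- `r` is no coordinate vector
  have hr2 : ∀ a, ∃ j, j ≠ a ∧ r j ≠ 0 := by
    intro a
    by_contra hc
    push Not at hc
    have e : r = (r a) • Pi.single a 1 := funext fun j => by
      by_cases hj : j = a
      · subst hj; simp
      · simp [hj, hc j hj]
    have ha : r a * r a = 1 := by
      have := hrU.1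
      rw [e] at this
      simpa using this
    rw [C.w_single, e, C.w_smul, C.w_single, Matrix.smul_mul] at hr
    rcases mul_self_eq_one_iff.1 ha with q | q <;> rw [q] at hr
    · exact (hgi a).1 (by
        rw [mul_inv_eq_iff_eq_mul]
        exact Units.ext (by rw [Units.val_mul, Units.val_mul]; simpa [C, clOf] using hr))
    · exact (hgi a).2 (by
        rw [mul_inv_eq_iff_eq_mul]
        exact Units.ext (by rw [Units.val_mul, Units.val_mul, Units.val_neg]; simpa [C, clOf] using hr))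
  refine Or.inr (top_of_units Φ hR hNM hM (by omega) ?_)
  by_cases h3 : p = 3
  · -- the field with three elements
    subst h3
    have h30 : (3 : F) = 0 := by exact_mod_cast (CharP.cast_eq_zero F 3)
    have vals : ∀ t : F, t = 0 ∨ t = 1 ∨ t = -1 := by
      intro t
      obtain ⟨u, rfl⟩ := (ZMod.castHom_bijective (n := 3) F hF).2 t
      have hu := zmod_three u
      rcases hu with rfl | rfl | rfl <;> simp
    have sq1 : ∀ {t : F}, t ≠ 0 → t * t = 1 := fun {t} ht => by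
      rcases vals t with rfl | rfl | rfl
      exacts [absurd rfl ht, one_mul 1, by ring]
    -- a unit vector has one or four non-zero coordinates
    have shape : ∀ {v : Fin 5 → F}, v ⬝ᵥ v = 1 → (∀ a, ∃ j, j ≠ a ∧ v j ≠ 0) →
        ∃ l, v l = 0 ∧ ∀ j, j ≠ l → v j ≠ 0 := by
      intro v hv hne
      let N := (Finset.univ.filter fun j => v j ≠ 0).card
      have hsum : (N : F) = 1 := by
        rw [← hv, dotProduct, ← Finset.sum_filter_ne_zero (s := Finset.univ)]
        rw [show (Finset.univ.filter fun j => v j * v j ≠ 0) = (Finset.univ.filter fun j => v j ≠ 0) by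
          ext j; simp, Finset.sum_congr rfl fun j hj => sq1 (Finset.mem_filter.mp hj).2]
        simp [N]
      have hN5 : N ≤ 5 := le_trans (Finset.card_le_univ _) (by simp)
      have hN1 : 1 < N := by
        obtain ⟨j, -, hj⟩ := hne 0
        obtain ⟨k, hk, hk0⟩ := hne j
        exact Finset.one_lt_card.mpr ⟨j, by simp [hj], k, by simp [hk0], hk.symm⟩
      have hN : N = 4 := by
        have hd : (N : F) = ((1 : ℕ) : F) := by rw [hsum, Nat.cast_one]
        rw [CharP.natCast_eq_natCast F 3, Nat.ModEq] at hd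
        omega
      have hcpl : ((Finset.univ.filter fun j => v j ≠ 0)ᶜ).card = 1 := by
        rw [Finset.card_compl, Fintype.card_fin]
        omega
      obtain ⟨l, hl⟩ := Finset.card_eq_one.mp hcpl
      refine ⟨l, ?_, fun j hj hj0 => hj ?_⟩
      · have : l ∈ (Finset.univ.filter fun j => v j ≠ 0)ᶜ := by rw [hl]; exact Finset.mem_singleton_self l
        simpa using this
      · have : j ∈ (Finset.univ.filter fun j => v j ≠ 0)ᶜ := by simp [hj0]
        rw [hl] at this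
        exact Finset.mem_singleton.mp this
    obtain ⟨l₀, hl₀, hl₀'⟩ := shape hrU.1 hr2
    -- the four-vectors with every zero position
    have pos : ∀ l, ∃ v ∈ units C M, v l = 0 ∧ ∀ j, j ≠ l → v j ≠ 0 := by
      intro l
      by_cases hl : l = l₀
      · exact ⟨r, hrU, hl ▸ hl₀, fun j hj => hl₀' j (hl ▸ hj)⟩
      obtain ⟨z, hz1, hz2⟩ : ∃ z : Fin 5, z ≠ l₀ ∧ z ≠ l := by
        clear hl hl₀ hl₀'; revert l₀ l; decide
      obtain ⟨p1, p2, p3, p4⟩ := cyc3_apply (Ne.symm hl) hz2.symm hz1.symm r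
      refine ⟨_, O.cyc_mem hrU (Ne.symm hl) hz2.symm hz1.symm, by rw [p2, hl₀], fun j hj => ?_⟩
      by_cases hj1 : j = l₀
      · rw [hj1, p1]; exact hl₀' z hz1
      by_cases hj2 : j = z
      · rw [hj2, p3]; exact hl₀' l hl
      · rw [p4 j hj1 hj hj2]; exact hl₀' j hj1
    intro c hc
    by_cases hone : ∃ a, ∀ j, j ≠ a → c j = 0
    · obtain ⟨a, ha⟩ := hone
      have e : c = (c a) • Pi.single a 1 := funext fun j => by
        by_cases hj : j = a
        · subst hj; simp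
        · simp [hj, ha j hj]
      rcases vals (c a) with q | q | q <;> rw [q] at e
      · rw [e, zero_smul, zero_dotProduct] at hc; exact absurd hc zero_ne_one
      · rw [e, one_smul]; exact O.single_mem a
      · rw [e, neg_one_smul]; exact O.neg_mem (O.single_mem a)
    push Not at hone
    obtain ⟨l, hl, hl'⟩ := shape hc hone
    obtain ⟨v, hv, hvl, hv'⟩ := pos l
    convert O.flips_mem hv (Finset.univ.filter fun j => v j ≠ c j) using 1
    funext j
    by_cases hj : j = l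
    · subst hj; simp [hvl, hl]
    by_cases hjj : v j = c j
    · simp [hjj]
    · simp [hjj]
      rcases vals (v j) with a | a | a <;> rcases vals (c j) with b | b | b <;> simp_all
  -- larger primes
  have h3F : (3 : F) ≠ 0 := fun e => by
    have hd : p ∣ 3 := (CharP.cast_eq_zero_iff F p 3).mp (by exact_mod_cast e)
    exact h3 ((Nat.prime_dvd_prime_iff_eq Fact.out Nat.prime_three).mp hd)
  by_cases hbig : ∃ a b c : Fin 5, a ≠ b ∧ b ≠ c ∧ a ≠ c ∧ BigTriple C M a b c
  · obtain ⟨a, b, c, hab, hbc, hac, hB⟩ := hbig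
    obtain ⟨d, e, h⟩ := exists_five hab hac hbc
    exact fun u hu => all_units O h hB h3F hu
  exfalso
  push Not at hbig
  have hS : Small C M := fun a b c hab hbc hac => by
    rcases triple_cases hF O hab hbc hac with q | q | ⟨h5, q⟩
    · exact absurd q (hbig a b c hab hbc hac)
    · exact Or.inl q
    · exact Or.inr ⟨fun e => h5 ((Nat.prime_dvd_prime_iff_eq (Fact.out : p.Prime) Nat.prime_five).mp
        ((CharP.cast_eq_zero_iff F p 5).mp (by exact_mod_cast e))), q⟩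
  rcases units_small O h3F hS hrU with ⟨a, ha⟩ | ⟨a, b, hab, ea, eb, h0⟩
  · obtain ⟨j, hj, hj0⟩ := hr2 a
    exact hj0 (ha j hj)
  -- a second root
  obtain ⟨c, hca, hcb⟩ : ∃ c : Fin 5, c ≠ a ∧ c ≠ b := by clear hab ea eb h0; revert a b; decide
  obtain ⟨p1, p2, p3, -⟩ := cyc3_apply hab hcb.symm hca.symm r
  have hr'U := O.cyc_mem hrU hab hcb.symm hca.symm
  set r' := cyc3 a b c r
  obtain ⟨d, e, h⟩ := exists_five hab hca.symm hcb.symm
  have hdot : r ⬝ᵥ r' = r a * r b := by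
    rw [h.dot, p1, p2, h0 c hca hcb, h0 d h.ad.symm h.bd.symm, h0 e h.ae.symm h.be.symm]; ring
  -- pull back by `g`
  obtain ⟨s, hs⟩ := O.span g⁻¹ (inv_mem hg) r'
  have hsU : s ∈ units C M := O.map_mem (inv_mem hg) hr'U hs
  have hs' : (g : M₄) * C.w s = C.w r' * (g : M₄) := by
    have := congrArg (fun X => (g : M₄) * X * (g : M₄)) hs
    simp only [← mul_assoc, Units.mul_inv, one_mul] at this
    simp only [mul_assoc, Units.inv_mul, mul_one] at this
    exact this.symm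
  have hd := O.dot_map hr hs'
  rw [hdot, single_dotProduct, one_mul] at hd
  have h4 : (2 : F) * 2 * (s i * s i) = 1 := by
    rw [← hd]; linear_combination 2 * (r b * r b) * ea + eb
  rcases units_small O h3F hS hsU with ⟨a', ha'⟩ | ⟨a', b', -, ea', eb', h0'⟩
  · by_cases hi : i = a'
    · subst hi
      have h1 : s i * s i = 1 := by
        have := hsU.1
        rw [dotProduct, Finset.sum_eq_single i (fun j _ hj => by rw [ha' j hj, zero_mul]) (by simp)] at this
        exact this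
      exact h3F (by linear_combination h4 - 2 * 2 * h1)
    · rw [ha' i hi] at h4; simp at h4
  · by_cases hi : i = a'
    · subst hi; exact one_ne_zero (α := F) (by linear_combination h4 - 2 * ea')
    by_cases hi' : i = b'
    · subst hi'; exact one_ne_zero (α := F) (by linear_combination h4 - 2 * eb')
    · rw [h0' i hi hi'] at h4; simp at h4

end Overgroup

theorem sp_symplecticType_maximal {F : Type*} [Field F] [Fintype F] (hodd : Odd (Fintype.card F)) (p : ℕ)
    (R : Subgroup (Matrix.GeneralLinearGroup (Fin 2 ⊕ Fin 2) F)) (hp : p.Prime) (hF : Fintype.card F = p)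
    (hRs : Cfsg.Geo.IsSymplecticTypeGroup 2 R) (hRi : Cfsg.Geo.ActsAbsolutelyIrreducibly (Cfsg.Geo.matrixSet R))
    (hR : R ≤ Cfsg.spGL 2 F) (h32 : Nat.card R = 32) (hZ : Nat.card (Subgroup.center R) = 2)
    (hm : Cfsg.Geo.IsOfMinusType 2 R) :
    Cfsg.Geo.IsMaximalIn (Cfsg.spGL 2 F) (Cfsg.Geo.subgroupNormalizer R ⊓ Cfsg.spGL 2 F) := by
  haveI := Fact.mk hp
  haveI : CharP F p := charP_of_card_eq_prime hF
  have hp2 : p ≠ 2 := fun e => by rw [hF, e] at hodd; exact absurd hodd (by decide)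
  have hι : Fintype.card (Fin 2 ⊕ Fin 2) = 4 := by simp
  haveI : Nonempty (Fin 2 ⊕ Fin 2) := ⟨Sum.inl 0⟩
  have P := C6Dim4.pre_of (C6Dim4.two_ne hp2) hι hRs hRi (Or.inr ⟨h32, hZ⟩)
  obtain ⟨Φ⟩ := C6Dim4.frame_two P hm
  have hproper : ¬ Cfsg.spGL 2 F ≤ Cfsg.Geo.subgroupNormalizer R :=
    Aschbacher.sp_not_le_typeTwoNormalizer le_rfl hodd hRs hRi fun g hg => ⟨1, fun x y => (hR hg x y).trans (one_mul _).symm⟩
  refine ⟨lt_of_le_of_ne inf_le_right fun e => hproper (e ▸ inf_le_left), fun M hNM hM => ?_⟩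
  rcases le_or_top Φ hR hNM hM hF hp2 with h | h
  · exact Or.inl (le_antisymm (le_inf h hM) hNM)
  · exact Or.inr (le_antisymm hM h)

end Cfsg.Agent.C6Units
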