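import Cfsg.Agent.C6Units.Five

/-!
Five anticommuting involutions: the classification of the unit vectors when no triple is big
(helper32).
-/

set_option autoImplicit false
set_option linter.unusedSectionVars false
set_option linter.style.haveILetI false
set_option linter.unusedSimpArgs false

namespace Cfsg.Agent.C6Units

open Matrix

variable {F : Type*} [Field F] [Fintype F] {ι : Type*} [Fintype ι] [DecidableEq ι] [Nonempty ι]
variable {C : Cl F 5 ι} {M : Subgroup (GL ι F)}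
variable (O : Over C M) (h3 : (3 : F) ≠ 0) (hS : Small C M)
include O h3 hS

/-- Some vector has three non-zero coordinates. -/
def Ico (C : Cl F 5 ι) (M : Subgroup (GL ι F)) : Prop :=
  ∃ u ∈ units C M, ∃ a b c d e : Fin 5, Five a b c d e ∧ u a ≠ 0 ∧ u b ≠ 0 ∧ u c ≠ 0 ∧ u d = 0 ∧ u e = 0

theorem val_of_vec {v : Fin 5 → F} (hv : v ∈ units C M) {a b c d e : Fin 5} (h : Five a b c d e)
    (ha : v a ≠ 0) (hb : v b ≠ 0) (hc : v c ≠ 0) (hd : v d = 0) (he : v e = 0) :
    (4 * (v b * v b) = 1 ∨ Gold (4 * (v b * v b))) ∧ (4 * (v c * v c) = 1 ∨ Gold (4 * (v c * v c))) ∧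
      4 * (v b * v b) ≠ 4 * (v c * v c) := by
  have h4 : (4 : F) ≠ 0 := by rw [show (4 : F) = 2 * 2 by norm_num]; exact mul_ne_zero C.h2 C.h2
  obtain ⟨h5, hP, hg, -⟩ := three_geo O h3 hS hv h ha hb hc hd he
  obtain ⟨-, gb, gc⟩ := coord_tr O h3 hS hv h hd he hP
  exact ⟨(gb (Or.inl ha)).resolve_left (mul_ne_zero h4 (mul_ne_zero hb hb)),
    (gc (Or.inl ha)).resolve_left (mul_ne_zero h4 (mul_ne_zero hc hc)),
    fun e => (hg.ne h5 (mul_ne_zero ha ha) (mul_ne_zero hb hb) (mul_ne_zero hc hc)).2.2 (mul_left_cancel₀ h4 e)⟩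

/-- Full support: a pair of equal squares, or the other three form a golden progression. -/
theorem five_pair {u : Fin 5 → F} (hu : u ∈ units C M) (hall : ∀ j, u j ≠ 0) {a b c d e : Fin 5}
    (h : Five a b c d e) :
    (¬ Ico C M ∧ u a * u a = u b * u b) ∨ (Ico C M ∧ Geo (u c * u c) (u d * u d) (u e * u e)) := by
  classical
  have h2 := C.h2
  set A : Fin 5 → F := fun j => if j = a ∨ j = b then u j else 0 with hA
  set B : Fin 5 → F := fun j => if j = a ∨ j = b then 0 else u j with hB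
  have hAa : A a = u a := by simp [hA]
  have hAb : A b = u b := by simp [hA]
  have hAc : A c = 0 := by simp [hA, h.ac.symm, h.bc.symm]
  have hAd : A d = 0 := by simp [hA, h.ad.symm, h.bd.symm]
  have hAe : A e = 0 := by simp [hA, h.ae.symm, h.be.symm]
  have hBa : B a = 0 := by simp [hB]
  have hBb : B b = 0 := by simp [hB]
  have hBc : B c = u c := by simp [hB, h.ac.symm, h.bc.symm]
  have hBd : B d = u d := by simp [hB, h.ad.symm, h.bd.symm]
  have hBe : B e = u e := by simp [hB, h.ae.symm, h.be.symm]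
  have huAB : A + B = u := funext fun j => by by_cases hj : j = a ∨ j = b <;> simp [hA, hB, hj]
  have hvAB : B - A = fun j => if j ∈ ({a, b} : Finset (Fin 5)) then -u j else u j := funext fun j => by
    by_cases hj : j = a ∨ j = b <;> simp [hA, hB, hj]
  have hdot : A ⬝ᵥ B = 0 := by rw [h.dot, hAc, hAd, hAe, hBa, hBb]; ring
  have hexcl : ∀ {v w : Fin 5 → F}, v ∈ units C M → w ∈ units C M → ∀ {a b c d e : Fin 5}, Five a b c d e →
      v a ≠ 0 → v b ≠ 0 → v c = 0 → v d = 0 → v e = 0 → ∀ {a' b' c' d' e' : Fin 5}, Five a' b' c' d' e' →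
      w a' ≠ 0 → w b' ≠ 0 → w c' ≠ 0 → w d' = 0 → w e' = 0 → False :=
    fun hv hw _ _ _ _ _ hh p q r s t _ _ _ _ _ hh' => root_excl O h3 hS hv hw hh p q r s t hh'
  have hcde : Five c d e a b := ⟨h.cd, h.ce, h.ac.symm, h.bc.symm, h.de, h.ad.symm, h.bd.symm, h.ae.symm, h.be.symm, h.ab⟩
  rcases O.dihedral (A := A) (B := B) (huAB ▸ hu) (hvAB ▸ O.flips_mem hu {a, b}) hdot with
    ⟨k, hk⟩ | ⟨k, hk⟩ | ⟨-, hβ, hz⟩
  · have hk0 : k ≠ 0 := fun e => by simpa [e] using hk.1
    have va : (k • A) a ≠ 0 := by simp [hAa, hk0, hall a]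
    have vb : (k • A) b ≠ 0 := by simp [hAb, hk0, hall b]
    have vc : (k • A) c = 0 := by simp [hAc]
    have vd : (k • A) d = 0 := by simp [hAd]
    have ve : (k • A) e = 0 := by simp [hAe]
    obtain ⟨q1, q2, -⟩ := pair_root O h3 hS hk h va vb vc vd ve
    refine Or.inl ⟨fun ⟨w, hw, a', b', c', d', e', h', p1, p2, p3, p4, p5⟩ =>
      hexcl hk hw h va vb vc vd ve h' p1 p2 p3 p4 p5, ?_⟩
    simp only [Pi.smul_apply, smul_eq_mul, hAa, hAb] at q1 q2
    refine mul_left_cancel₀ (show (2 : F) * (k * k) ≠ 0 from mul_ne_zero h2 (mul_ne_zero hk0 hk0)) ?_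
    linear_combination q1 - q2
  · have hk0 : k ≠ 0 := fun e => by simpa [e] using hk.1
    have vc : (k • B) c ≠ 0 := by simp [hBc, hk0, hall c]
    have vd : (k • B) d ≠ 0 := by simp [hBd, hk0, hall d]
    have ve : (k • B) e ≠ 0 := by simp [hBe, hk0, hall e]
    have va : (k • B) a = 0 := by simp [hBa]
    have vb : (k • B) b = 0 := by simp [hBb]
    obtain ⟨-, -, hg, -⟩ := three_geo O h3 hS hk hcde vc vd ve va vb
    refine Or.inr ⟨⟨_, hk, c, d, e, a, b, hcde, vc, vd, ve, va, vb⟩, ?_⟩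
    simp only [Pi.smul_apply, smul_eq_mul, hBc, hBd, hBe] at hg
    exact Geo.of_smul (mul_ne_zero hk0 hk0) (by convert hg using 1 <;> ring)
  · set β := B ⬝ᵥ B with hβd
    have hβ' : β = u c * u c + u d * u d + u e * u e := by rw [hβd, h.dot, hBa, hBb, hBc, hBd, hBe]; ring
    -- the image of a coordinate vector
    have vec : ∀ {i j k : Fin 5}, Five i j k a b → B i = u i → B j = u j → B k = u k →
        ∃ v ∈ units C M, v a = 0 ∧ v b = 0 ∧ v i = 1 - 2 * (u i * u i) / β ∧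
          v j = -(2 * (u i * u j) / β) ∧ v k = -(2 * (u i * u k) / β) := by
      intro i j k hh hi hj hk
      refine ⟨_, hz _ (O.single_mem i) (by simp [hA, hh.ad, hh.ae]), ?_, ?_, ?_, ?_, ?_⟩
      · simp [hBa, hh.ad.symm]
      · simp [hBb, hh.ae.symm]
      · simp [hi, mul_div_assoc]; ring
      · simp [hi, hj, hh.ab.symm]; ring
      · simp [hi, hk, hh.ac.symm]; ring
    have h1 : Five c d e a b := hcde
    have h1' : Five d e c a b := ⟨h.de, h.cd.symm, h.ad.symm, h.bd.symm, h.ce.symm, h.ae.symm, h.be.symm, h.ac.symm, h.bc.symm, h.ab⟩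
    have h1'' : Five e c d a b := ⟨h.ce.symm, h.de.symm, h.ae.symm, h.be.symm, h.cd, h.ac.symm, h.bc.symm, h.ad.symm, h.bd.symm, h.ab⟩
    obtain ⟨v₁, hv₁, va₁, vb₁, vc₁, vd₁, ve₁⟩ := vec h1 hBc hBd hBe
    obtain ⟨v₂, hv₂, va₂, vb₂, vd₂, ve₂, vc₂⟩ := vec h1' hBd hBe hBc
    obtain ⟨v₃, hv₃, va₃, vb₃, ve₃, vc₃, vd₃⟩ := vec h1'' hBe hBc hBd
    have nz : ∀ i j : Fin 5, -(2 * (u i * u j) / β) ≠ 0 := fun i j =>
      neg_ne_zero.mpr (div_ne_zero (mul_ne_zero h2 (mul_ne_zero (hall i) (hall j))) hβ)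
    by_cases hI : Ico C M
    · refine Or.inr ⟨hI, ?_⟩
      obtain ⟨w, hw, a', b', c', d', e', h', p1, p2, p3, p4, p5⟩ := hI
      have d1 : v₁ c ≠ 0 := fun e0 => hexcl hv₁ hw (a := d) (b := e) (c := c) (d := a) (e := b) h1'
        (vd₁ ▸ nz _ _) (ve₁ ▸ nz _ _) e0 va₁ vb₁ h' p1 p2 p3 p4 p5
      have d2 : v₂ d ≠ 0 := fun e0 => hexcl hv₂ hw (a := e) (b := c) (c := d) (d := a) (e := b) h1''
        (ve₂ ▸ nz _ _) (vc₂ ▸ nz _ _) e0 va₂ vb₂ h' p1 p2 p3 p4 p5
      have d3 : v₃ e ≠ 0 := fun e0 => hexcl hv₃ hw (a := c) (b := d) (c := e) (d := a) (e := b) h1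
        (vc₃ ▸ nz _ _) (vd₃ ▸ nz _ _) e0 va₃ vb₃ h' p1 p2 p3 p4 p5
      obtain ⟨A1, B1, n1⟩ := val_of_vec O h3 hS hv₁ h1 d1 (vd₁ ▸ nz _ _) (ve₁ ▸ nz _ _) va₁ vb₁
      obtain ⟨A2, B2, n2⟩ := val_of_vec O h3 hS hv₂ h1' d2 (ve₂ ▸ nz _ _) (vc₂ ▸ nz _ _) va₂ vb₂
      obtain ⟨A3, B3, n3⟩ := val_of_vec O h3 hS hv₃ h1'' d3 (vc₃ ▸ nz _ _) (vd₃ ▸ nz _ _) va₃ vb₃
      rw [vd₁, ve₁] at n1
      rw [vd₁] at A1
      rw [ve₁] at B1
      rw [ve₂, vc₂] at n2
      rw [ve₂] at A2
      rw [vc₃, vd₃] at n3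
      set Pcd := 4 * (-(2 * (u c * u d) / β) * -(2 * (u c * u d) / β)) with hPcd
      set Pce := 4 * (-(2 * (u c * u e) / β) * -(2 * (u c * u e) / β)) with hPce
      set Pde := 4 * (-(2 * (u d * u e) / β) * -(2 * (u d * u e) / β)) with hPde
      have e2 : 4 * (-(2 * (u d * u c) / β) * -(2 * (u d * u c) / β)) = Pcd := by rw [hPcd]; ring
      have e3 : 4 * (-(2 * (u e * u c) / β) * -(2 * (u e * u c) / β)) = Pce := by rw [hPce]; ring
      have e4 : 4 * (-(2 * (u e * u d) / β) * -(2 * (u e * u d) / β)) = Pde := by rw [hPde]; ring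
      rw [e2] at n2
      rw [e3, e4] at n3
      have hg := val_three A1 B1 A2 n1 n2.symm n3
      have hne : ∀ i j : Fin 5, 4 * (-(2 * (u i * u j) / β) * -(2 * (u i * u j) / β)) ≠ 0 := fun i j =>
        mul_ne_zero (by rw [show (4 : F) = 2 * 2 by norm_num]; exact mul_ne_zero h2 h2) (mul_ne_zero (nz i j) (nz i j))
      have hi := hg.inv (hne c d) (hne c e) (hne d e)
      have h4 : (4 : F) ≠ 0 := by rw [show (4 : F) = 2 * 2 by norm_num]; exact mul_ne_zero h2 h2
      set K := (u c * u c) * (u d * u d) * (u e * u e) * 16 / (β * β)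
      have hK : Geo (u e * u e) (u d * u d) (u c * u c) := by
        have he' : K * Pcd⁻¹ = u e * u e := by
          simp only [K, hPcd]; field_simp [hall c, hall d, h4]; ring
        have hd' : K * Pce⁻¹ = u d * u d := by
          simp only [K, hPce]; field_simp [hall c, hall e, h4]; ring
        have hc' : K * Pde⁻¹ = u c * u c := by
          simp only [K, hPde]; field_simp [hall d, hall e, h4]; ring
        have := hi.smul K
        rwa [he', hd', hc'] at this
      rcases hK with q | q | q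
      · exact Or.inr (Or.inr ⟨by linear_combination q.1, by linear_combination q.2⟩)
      · exact Or.inr (Or.inl ⟨by linear_combination q.1, by linear_combination q.2⟩)
      · exact Or.inl ⟨by linear_combination q.1, by linear_combination q.2⟩
    · exfalso
      have z1 : v₁ c = 0 := by
        by_contra e0; exact hI ⟨_, hv₁, c, d, e, a, b, h1, e0, vd₁ ▸ nz _ _, ve₁ ▸ nz _ _, va₁, vb₁⟩
      have z2 : v₂ d = 0 := by
        by_contra e0; exact hI ⟨_, hv₂, d, e, c, a, b, h1', e0, ve₂ ▸ nz _ _, vc₂ ▸ nz _ _, va₂, vb₂⟩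
      have z3 : v₃ e = 0 := by
        by_contra e0; exact hI ⟨_, hv₃, e, c, d, a, b, h1'', e0, vc₃ ▸ nz _ _, vd₃ ▸ nz _ _, va₃, vb₃⟩
      rw [vc₁] at z1
      rw [vd₂] at z2
      rw [ve₃] at z3
      field_simp at z1 z2 z3
      exact hβ (by linear_combination z1 + z2 + z3 - 2 * hβ')

/-- No vector has three non-zero coordinates. -/
theorem no_ico : ¬ Ico C M := by
  intro hI
  obtain ⟨u, hu, a, b, c, d, e, h, ha, hb, hc, hd, he⟩ := hI
  have hI : Ico C M := ⟨u, hu, a, b, c, d, e, h, ha, hb, hc, hd, he⟩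
  obtain ⟨h5, -, -, h2c⟩ := three_geo O h3 hS hu h ha hb hc hd he
  -- move `u` to the triple `c, d, e`
  have hda : Five a d e b c := ⟨h.ad, h.ae, h.ab, h.ac, h.de, h.bd.symm, h.cd.symm, h.be.symm, h.ce.symm, h.bc⟩
  obtain ⟨p1, p2, p3, p4⟩ := cyc3_apply h.ad h.de h.ae u
  have hv0 := O.cyc_mem hu h.ad h.de h.ae
  set v₀ := cyc3 a d e u
  have q1 : v₀ a = 0 := by rw [p1, he]
  have q3 : v₀ e = 0 := by rw [p3, hd]
  have qb : v₀ b = u b := p4 b h.ab.symm h.bd h.be
  have qc : v₀ c = u c := p4 c h.ac.symm h.cd h.ce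
  obtain ⟨r1, r2, r3, r4⟩ := cyc3_apply h.be h.ae.symm h.ab.symm v₀
  have hv := O.cyc_mem hv0 h.be h.ae.symm h.ab.symm
  set v := cyc3 b e a v₀
  have vb : v b = 0 := by rw [r1, q1]
  have ve : v e = u b := by rw [r2, qb]
  have va : v a = 0 := by rw [r3, q3]
  have vc : v c = u c := by rw [r4 c h.bc.symm h.ce h.ac.symm, qc]
  have vd : v d = u a := by rw [r4 d h.bd.symm h.de h.ad.symm, p2]
  have hdot : u ⬝ᵥ v = u c * u c := by rw [h.dot, va, vb, vc, hd, he]; ring
  have hw := O.refl_mem hu hv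
  set w := (2 * (u ⬝ᵥ v)) • u - v with hw'
  have h2 := C.h2
  have wall : ∀ j, w j ≠ 0 := by
    intro j
    rw [hw']
    simp only [hdot, Pi.sub_apply, Pi.smul_apply, smul_eq_mul]
    rcases h.cover j with rfl | rfl | rfl | rfl | rfl
    · simp [va, h2, hc, ha]
    · simp [vb, h2, hc, hb]
    · rw [vc, show 2 * (u j * u j) * u j - u j = (2 * (u j * u j) - 1) * u j by ring]
      exact mul_ne_zero (sub_ne_zero.mpr (h2c j)) hc
    · simp [vd, hd, ha]
    · simp [ve, he, hb]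
  -- every triple of squares is a golden progression
  have geo : ∀ {i j k l m : Fin 5}, Five i j k l m → Geo (w k * w k) (w l * w l) (w m * w m) := fun hh => by
    rcases five_pair O h3 hS hw wall hh with ⟨hn, -⟩ | ⟨-, hg⟩
    · exact absurd hI hn
    · exact hg
  have ne : ∀ j, w j * w j ≠ 0 := fun j => mul_ne_zero (wall j) (wall j)
  have g1 := geo (i := d) (j := e) (k := a) (l := b) (m := c)
    ⟨h.de, h.ad.symm, h.bd.symm, h.cd.symm, h.ae.symm, h.be.symm, h.ce.symm, h.ab, h.ac, h.bc⟩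
  have g2 := geo (i := c) (j := e) (k := a) (l := b) (m := d)
    ⟨h.ce, h.ac.symm, h.bc.symm, h.cd, h.ae.symm, h.be.symm, h.de.symm, h.ab, h.ad, h.bd⟩
  have g3 := geo (i := c) (j := d) (k := a) (l := b) (m := e)
    ⟨h.cd, h.ac.symm, h.bc.symm, h.ce, h.ad.symm, h.bd.symm, h.de, h.ab, h.ae, h.be⟩
  have g4 := geo (i := a) (j := b) (k := c) (l := d) (m := e) h
  obtain ⟨n1, n2, n3⟩ := g4.ne h5 (ne c) (ne d) (ne e)
  exact geo_three h3 h2 (ne a) (ne b) g1 g2 g3 n1 n2 n3

theorem no_three {u : Fin 5 → F} (hu : u ∈ units C M) {a b c d e : Fin 5} (h : Five a b c d e)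
    (ha : u a ≠ 0) (hb : u b ≠ 0) (hc : u c ≠ 0) (hd : u d = 0) (he : u e = 0) : False :=
  no_ico O h3 hS ⟨u, hu, a, b, c, d, e, h, ha, hb, hc, hd, he⟩

/-- Full support: all squares are equal. -/
theorem five_eq {u : Fin 5 → F} (hu : u ∈ units C M) (hall : ∀ j, u j ≠ 0) (i j : Fin 5) :
    u i * u i = u j * u j := by
  rcases eq_or_ne i j with rfl | hij
  · rfl
  obtain ⟨c, hci, hcj⟩ : ∃ c : Fin 5, c ≠ i ∧ c ≠ j := by
    clear hij; revert i j; decide
  obtain ⟨d, e, h⟩ := exists_five hij hci.symm hcj.symm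
  rcases five_pair O h3 hS hu hall h with ⟨-, e1⟩ | ⟨hI, -⟩
  · exact e1
  · exact absurd hI (no_ico O h3 hS)

/-- Four non-zero coordinates are impossible. -/
theorem no_four {u : Fin 5 → F} (hu : u ∈ units C M) {a b c d l : Fin 5} (h : Five a b c d l)
    (ha : u a ≠ 0) (hb : u b ≠ 0) (hc : u c ≠ 0) (hd : u d ≠ 0) (hl : u l = 0) : False := by
  have h2 := C.h2
  have h4 : (4 : F) ≠ 0 := by rw [show (4 : F) = 2 * 2 by norm_num]; exact mul_ne_zero h2 h2
  -- every square is minus one half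
  have key : ∀ {a b c d l : Fin 5}, Five a b c d l → u a ≠ 0 → u b ≠ 0 → u c ≠ 0 → u d ≠ 0 → u l = 0 →
      2 * (u b * u b) = -1 := by
    intro a b c d l h ha hb hc hd hl
    set B := u b * u b with hB
    have hB1 : 2 * B ≠ 1 := fun e1 => by
      have hw := O.refl_mem hu (O.single_mem b)
      have hdb : u ⬝ᵥ Pi.single b 1 = u b := by rw [dotProduct_single, mul_one]
      rw [hdb] at hw
      refine no_three O h3 hS hw (a := a) (b := c) (c := d) (d := b) (e := l)
        ⟨h.ac, h.ad, h.ab, h.ae, h.cd, h.bc.symm, h.ce, h.bd.symm, h.de, h.be⟩ ?_ ?_ ?_ ?_ ?_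
      · simp [h.ab, h2, ha, hb]
      · simp [h.bc.symm, h2, hc, hb]
      · simp [h.bd.symm, h2, hd, hb]
      · simp; linear_combination e1
      · simp [h.be.symm, hl]
    -- a double transposition
    obtain ⟨p1, p2, p3, p4⟩ := cyc3_apply h.ae h.de.symm h.ad u
    have hv0 := O.cyc_mem hu h.ae h.de.symm h.ad
    set v₀ := cyc3 a l d u
    obtain ⟨r1, r2, r3, r4⟩ := cyc3_apply h.ad h.cd.symm h.ac v₀
    have hv := O.cyc_mem hv0 h.ad h.cd.symm h.ac
    set v := cyc3 a d c v₀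
    have va : v a = u c := by rw [r1, p4 c h.ac.symm h.ce h.cd]
    have v3 : v c = 0 := by rw [r3, p3, hl]
    have vd : v d = u d := by rw [r2, p1]
    have vb : v b = u b := by rw [r4 b h.ab.symm h.bd h.bc, p4 b h.ab.symm h.be h.bd]
    have vl : v l = u a := by rw [r4 l h.ae.symm h.de.symm h.ce.symm, p2]
    by_contra hne
    have hB4 : 4 * (B * B) ≠ 1 := fun e1 => by
      rcases mul_eq_zero.mp (show (2 * B - 1) * (2 * B + 1) = 0 by linear_combination e1) with q | q
      · exact hB1 (sub_eq_zero.mp q)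
      · exact hne (eq_neg_of_add_eq_zero_left q)
    -- move further: `a ↦ 0`, `l ↦ a`, exchange `c, d`
    obtain ⟨s1, s2, s3, s4⟩ := cyc3_apply h.ac h.cd h.ad v
    have hx := O.cyc_mem hv h.ac h.cd h.ad
    set x := cyc3 a c d v
    have xa : x a = u d := by rw [s1, vd]
    have xc : x c = u c := by rw [s2, va]
    have xd : x d = 0 := by rw [s3, v3]
    have xb : x b = u b := by rw [s4 b h.ab.symm h.bc h.bd, vb]
    have xl : x l = u a := by rw [s4 l h.ae.symm h.ce.symm h.de.symm, vl]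
    obtain ⟨t1, t2, t3, t4⟩ := cyc3_apply h.ac h.cd h.ad x
    have hy := O.cyc_mem hx h.ac h.cd h.ad
    set y := cyc3 a c d x
    have ya : y a = 0 := by rw [t1, xd]
    have yc : y c = u d := by rw [t2, xa]
    have yd : y d = u c := by rw [t3, xc]
    have yb : y b = u b := by rw [t4 b h.ab.symm h.bc h.bd, xb]
    have yl : y l = u a := by rw [t4 l h.ae.symm h.ce.symm h.de.symm, xl]
    -- the two reflected vectors
    have refl : ∀ z ∈ units C M, z a = 0 → z b = u b → z l = u a → ∀ s : F, s * s = 1 → z c = s * u d →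
        z d = -(s * u c) → (2 * B * u c = s * u d ∨ 2 * B * u d = -(s * u c)) := by
      intro z hz za zb zl s hs zc zd
      have hdot : u ⬝ᵥ z = B := by rw [h.dot, za, zb, zl, zc, zd, hl, hB]; ring
      have hw := O.refl_mem hu hz
      rw [hdot] at hw
      by_contra hcon
      push Not at hcon
      obtain ⟨n1, n2⟩ := hcon
      set w := (2 * B) • u - z with hw'
      have wall : ∀ j, w j ≠ 0 := by
        intro j
        simp only [hw', Pi.sub_apply, Pi.smul_apply, smul_eq_mul]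
        rcases h.cover j with rfl | rfl | rfl | rfl | rfl
        · simp [za, h2, hb, ha, hB]
        · rw [zb, show 2 * B * u j - u j = (2 * B - 1) * u j by ring]
          exact mul_ne_zero (sub_ne_zero.mpr hB1) hb
        · rw [zc]; exact sub_ne_zero.mpr n1
        · rw [zd]; exact sub_ne_zero.mpr n2
        · simp [zl, hl, ha]
      have := five_eq O h3 hS hw wall a l
      simp only [hw', Pi.sub_apply, Pi.smul_apply, smul_eq_mul, za, zl, hl] at this
      have h0 : (4 * (B * B) - 1) * (u a * u a) = 0 := by linear_combination this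
      rcases mul_eq_zero.mp h0 with q | q
      · exact hB4 (sub_eq_zero.mp q)
      · exact mul_ne_zero ha ha q
    have e1 := refl _ (O.flip_mem hy d) (by simp [h.ad, ya]) (by simp [h.bd, yb]) (by simp [h.de.symm, yl]) 1
      (by ring) (by simp [h.cd, yc]) (by simp [yd])
    have e2 := refl _ (O.flip_mem hy c) (by simp [h.ac, ya]) (by simp [h.bc, yb]) (by simp [h.ce.symm, yl]) (-1)
      (by ring) (by simp [yc]) (by simp [h.cd.symm, yd])
    have hB0 : B ≠ 0 := mul_ne_zero hb hb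
    rcases e1 with q | q <;> rcases e2 with r | r
    · exact mul_ne_zero (mul_ne_zero h4 hB0) hc (by linear_combination q + r)
    · exact mul_ne_zero (sub_ne_zero.mpr hB4) hc (by linear_combination 2 * B * q + r)
    · exact mul_ne_zero (sub_ne_zero.mpr hB4) hc (by linear_combination 2 * B * r - q)
    · exact mul_ne_zero (mul_ne_zero h4 hB0) hd (by linear_combination q + r)
  have k1 := key h ha hb hc hd hl
  have k2 := key (a := b) (b := a) ⟨h.ab.symm, h.bc, h.bd, h.be, h.ac, h.ad, h.ae, h.cd, h.ce, h.de⟩ hb ha hc hd hl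
  have k3 := key (b := c) (c := b) ⟨h.ac, h.ab, h.ad, h.ae, h.bc.symm, h.cd, h.ce, h.bd, h.be, h.de⟩ ha hc hb hd hl
  have k4 := key (b := d) (d := b) ⟨h.ad, h.ac, h.ab, h.ae, h.cd.symm, h.bd.symm, h.de, h.bc.symm, h.ce, h.be⟩ ha hd hc hb hl
  have hsum := hu.1
  rw [h.dot, hl] at hsum
  have h6 : (2 : F) * 3 = 0 := by linear_combination k1 + k2 + k3 + k4 - 2 * hsum
  exact mul_ne_zero h2 h3 h6

/-- Five non-zero coordinates are impossible. -/
theorem no_full {u : Fin 5 → F} (hu : u ∈ units C M) (hall : ∀ j, u j ≠ 0) : False := by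
  have h2 := C.h2
  have h : Five (0 : Fin 5) 1 2 3 4 := ⟨by decide, by decide, by decide, by decide, by decide, by decide,
    by decide, by decide, by decide, by decide⟩
  have eq := five_eq O h3 hS hu hall
  set x := u 0 * u 0 with hx
  have hsum : 5 * x = 1 := by
    have := hu.1
    rw [h.dot, eq 1 0, eq 2 0, eq 3 0, eq 4 0] at this
    linear_combination this
  have hw := O.refl_mem hu (O.flip_mem hu 0)
  have hdot : u ⬝ᵥ Function.update u 0 (-u 0) = 3 * x := by
    rw [h.dot]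
    simp [eq 1 0, eq 2 0, eq 3 0, eq 4 0]
    linear_combination (0 : F) * hsum
  rw [hdot] at hw
  set w := (2 * (3 * x)) • u - Function.update u 0 (-u 0) with hw'
  have w0 : w 0 = (6 * x + 1) * u 0 := by simp [hw']; ring
  have wj : ∀ j, j ≠ 0 → w j = (6 * x - 1) * u j := fun j hj => by simp [hw', hj]; ring
  have hx1 : 6 * x - 1 = x := by linear_combination hsum
  by_cases h6 : 6 * x + 1 = 0
  · refine no_four O h3 hS hw (a := 1) (b := 2) (c := 3) (d := 4) (l := 0)
      ⟨by decide, by decide, by decide, by decide, by decide, by decide, by decide, by decide, by decide, by decide⟩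
      ?_ ?_ ?_ ?_ (by rw [w0, h6, zero_mul])
    all_goals
      rw [wj _ (by decide), hx1]
      exact mul_ne_zero (mul_ne_zero (hall 0) (hall 0)) (hall _)
  · have wall : ∀ j, w j ≠ 0 := fun j => by
      by_cases hj : j = 0
      · rw [hj, w0]; exact mul_ne_zero h6 (hall 0)
      · rw [wj j hj, hx1]; exact mul_ne_zero (mul_ne_zero (hall 0) (hall 0)) (hall j)
    have := five_eq O h3 hS hw wall 0 1
    rw [w0, wj 1 (by decide)] at this
    have h0 : (2 * 2) * (2 * 3 * (x * x)) = 0 := by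
      linear_combination this + (6 * x - 1) * (6 * x - 1) * eq 1 0
    exact mul_ne_zero (mul_ne_zero h2 h2) (mul_ne_zero (mul_ne_zero h2 h3)
      (mul_ne_zero (mul_ne_zero (hall 0) (hall 0)) (mul_ne_zero (hall 0) (hall 0)))) h0

/-- Support inside four given indices. -/
theorem units_small_aux {u : Fin 5 → F} (hu : u ∈ units C M) {a b c d l : Fin 5} (h : Five a b c d l)
    (hl : u l = 0) (ha : u a ≠ 0) :
    (∃ a, ∀ j, j ≠ a → u j = 0) ∨
      ∃ a b, a ≠ b ∧ 2 * (u a * u a) = 1 ∧ 2 * (u b * u b) = 1 ∧ ∀ j, j ≠ a → j ≠ b → u j = 0 := by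
  -- a root on two given indices
  have root : ∀ {a b c d e : Fin 5}, Five a b c d e → u a ≠ 0 → u b ≠ 0 → u c = 0 → u d = 0 → u e = 0 →
      ∃ a b, a ≠ b ∧ 2 * (u a * u a) = 1 ∧ 2 * (u b * u b) = 1 ∧ ∀ j, j ≠ a → j ≠ b → u j = 0 := by
    intro a b c d e h ha hb hc hd he
    obtain ⟨q1, q2, -⟩ := pair_root O h3 hS hu h ha hb hc hd he
    refine ⟨a, b, h.ab, q1, q2, fun j p q => ?_⟩
    rcases h.cover j with e1 | e1 | e1 | e1 | e1
    exacts [absurd e1 p, absurd e1 q, e1 ▸ hc, e1 ▸ hd, e1 ▸ he]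
  by_cases hb : u b = 0
  · by_cases hc : u c = 0
    · by_cases hd : u d = 0
      · refine Or.inl ⟨a, fun j p => ?_⟩
        rcases h.cover j with e1 | e1 | e1 | e1 | e1
        exacts [absurd e1 p, e1 ▸ hb, e1 ▸ hc, e1 ▸ hd, e1 ▸ hl]
      · exact Or.inr (root (a := a) (b := d) (c := b) (d := c) (e := l)
          ⟨h.ad, h.ab, h.ac, h.ae, h.bd.symm, h.cd.symm, h.de, h.bc, h.be, h.ce⟩ ha hd hb hc hl)
    · by_cases hd : u d = 0
      · exact Or.inr (root (a := a) (b := c) (c := b) (d := d) (e := l)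
          ⟨h.ac, h.ab, h.ad, h.ae, h.bc.symm, h.cd, h.ce, h.bd, h.be, h.de⟩ ha hc hb hd hl)
      · exact (no_three O h3 hS hu (a := a) (b := c) (c := d) (d := b) (e := l)
          ⟨h.ac, h.ad, h.ab, h.ae, h.cd, h.bc.symm, h.ce, h.bd.symm, h.de, h.be⟩ ha hc hd hb hl).elim
  · by_cases hc : u c = 0
    · by_cases hd : u d = 0
      · exact Or.inr (root h ha hb hc hd hl)
      · exact (no_three O h3 hS hu (a := a) (b := b) (c := d) (d := c) (e := l)
          ⟨h.ab, h.ad, h.ac, h.ae, h.bd, h.bc, h.be, h.cd.symm, h.de, h.ce⟩ ha hb hd hc hl).elim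
    · by_cases hd : u d = 0
      · exact (no_three O h3 hS hu h ha hb hc hd hl).elim
      · exact (no_four O h3 hS hu h ha hb hc hd hl).elim

/-- **The unit vectors without a big triple.** -/
theorem units_small {u : Fin 5 → F} (hu : u ∈ units C M) :
    (∃ a, ∀ j, j ≠ a → u j = 0) ∨
      ∃ a b, a ≠ b ∧ 2 * (u a * u a) = 1 ∧ 2 * (u b * u b) = 1 ∧ ∀ j, j ≠ a → j ≠ b → u j = 0 := by
  obtain ⟨l, hl⟩ : ∃ l, u l = 0 := by
    by_contra hc
    push Not at hc
    exact no_full O h3 hS hu hc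
  obtain ⟨a, ha⟩ : ∃ a, u a ≠ 0 := by
    by_contra hc
    push Not at hc
    have := hu.1
    rw [show u = 0 from funext hc, zero_dotProduct] at this
    exact zero_ne_one this
  obtain ⟨b, hb, hb'⟩ : ∃ b : Fin 5, b ≠ a ∧ b ≠ l := by
    clear ha hl; revert a l; decide
  have hal : a ≠ l := fun e => ha (e ▸ hl)
  obtain ⟨c, d, h⟩ := exists_five hal hb.symm hb'.symm
  exact units_small_aux O h3 hS hu (a := a) (b := b) (c := c) (d := d) (l := l)
    ⟨h.ac, h.ad, h.ae, h.ab, h.cd, h.ce, h.bc.symm, h.de, h.bd.symm, h.be.symm⟩ hl ha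

end Cfsg.Agent.C6Units
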