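import Mathlib

/-!
Unit vectors of an anticommuting family of involutions whose elements lie in a matrix group
preserving the span of the family (helper32; for the subgroups of symplectic type in dimension four).
-/

set_option autoImplicit false
set_option linter.unusedSectionVars false
set_option linter.style.haveILetI false
set_option linter.unusedSimpArgs false

namespace Cfsg.Agent.C6Units

open Matrix

/-- Pairwise anticommuting involutions. -/
structure Cl (F : Type*) [Field F] (n : ℕ) (ι : Type*) [Fintype ι] [DecidableEq ι] where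
  G : Fin n → Matrix ι ι F
  h2 : (2 : F) ≠ 0
  sq : ∀ i, G i * G i = 1
  anti : ∀ i j, i ≠ j → G i * G j = -(G j * G i)

variable {F : Type*} [Field F] {n : ℕ} {ι : Type*} [Fintype ι] [DecidableEq ι]

namespace Cl

variable (C : Cl F n ι)

/-- The combination with coefficients `c`. -/
def w (c : Fin n → F) : Matrix ι ι F := ∑ i, c i • C.G i

theorem w_add (c d : Fin n → F) : C.w (c + d) = C.w c + C.w d := by
  simp [w, add_smul, Finset.sum_add_distrib]

theorem w_smul (k : F) (c : Fin n → F) : C.w (k • c) = k • C.w c := by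
  simp [w, Finset.smul_sum, smul_smul]

theorem w_zero : C.w 0 = 0 := by simp [w]

theorem w_neg (c : Fin n → F) : C.w (-c) = -C.w c := by simp [w]

theorem w_sub (c d : Fin n → F) : C.w (c - d) = C.w c - C.w d := by
  rw [sub_eq_add_neg, w_add, w_neg, sub_eq_add_neg]

theorem w_single (i : Fin n) : C.w (Pi.single i 1) = C.G i := by
  rw [w, Finset.sum_eq_single i] <;> simp +contextual [Pi.single_apply]

theorem w_mul_add (c d : Fin n → F) :
    C.w c * C.w d + C.w d * C.w c = (2 * (c ⬝ᵥ d)) • (1 : Matrix ι ι F) := by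
  have e : C.w d * C.w c = ∑ i, ∑ j, (c i * d j) • (C.G j * C.G i) := by
    rw [w, w, Finset.sum_mul_sum, Finset.sum_comm]
    refine Finset.sum_congr rfl fun i _ => Finset.sum_congr rfl fun j _ => ?_
    rw [smul_mul_smul_comm, mul_comm]
  rw [e, w, w, Finset.sum_mul_sum, ← Finset.sum_add_distrib, dotProduct, Finset.mul_sum, Finset.sum_smul]
  refine Finset.sum_congr rfl fun i _ => ?_
  rw [← Finset.sum_add_distrib, Finset.sum_eq_single i]
  · rw [smul_mul_smul_comm, C.sq, ← add_smul]; congr 1; ring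
  · intro j _ hji
    rw [smul_mul_smul_comm, ← smul_add, C.anti i j hji.symm, neg_add_cancel, smul_zero]
  · simp

theorem w_sq (c : Fin n → F) : C.w c * C.w c = (c ⬝ᵥ c) • (1 : Matrix ι ι F) := by
  have h := C.w_mul_add c c
  rw [← two_smul F, mul_smul] at h
  exact smul_right_injective _ C.h2 h

theorem w_swap (c d : Fin n → F) :
    C.w d * C.w c = (2 * (c ⬝ᵥ d)) • (1 : Matrix ι ι F) - C.w c * C.w d := by
  rw [← C.w_mul_add c d]; abel

theorem w_sandwich (u v : Fin n → F) :
    C.w u * C.w v * C.w u = C.w ((2 * (u ⬝ᵥ v)) • u - (u ⬝ᵥ u) • v) := by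
  rw [mul_assoc, C.w_swap u v, mul_sub, Matrix.mul_smul, mul_one, ← mul_assoc, C.w_sq, w_sub, w_smul,
    w_smul, Matrix.smul_mul, one_mul]

theorem w_eq_zero [Nonempty ι] {c : Fin n → F} (h : C.w c = 0) : c = 0 := funext fun i => by
  have e := C.w_mul_add c (Pi.single i 1)
  rw [h, zero_mul, mul_zero, add_zero, dotProduct_single, mul_one] at e
  obtain ⟨j⟩ := (inferInstance : Nonempty ι)
  have e' := congrFun (congrFun e j) j
  simp [C.h2] at e'
  exact e'

theorem w_inj [Nonempty ι] {c d : Fin n → F} (h : C.w c = C.w d) : c = d :=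
  sub_eq_zero.mp (C.w_eq_zero (by rw [w_sub, h, sub_self]))

theorem smul_one_inj [Nonempty ι] {a b : F} (h : a • (1 : Matrix ι ι F) = b • 1) : a = b :=
  smul_left_injective F one_ne_zero h

/-- A product of orthogonal non-zero vectors is not a scalar. -/
theorem pair_indep [Nonempty ι] {A B : Fin n → F} (hAB : A ⬝ᵥ B = 0) (hA : A ≠ 0) (hB : B ≠ 0)
    (hu : (A + B) ⬝ᵥ (A + B) = 1) {a b : F} (h : a • (1 : Matrix ι ι F) + b • (C.w A * C.w B) = 0) :
    a = 0 ∧ b = 0 := by
  suffices hb : b = 0 by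
    rw [hb, zero_smul, add_zero] at h
    exact ⟨smul_one_inj (h.trans (zero_smul F 1).symm), hb⟩
  by_contra hb
  set l : F := -(b⁻¹ * a) with hl
  have hP : C.w A * C.w B = l • 1 := by
    have h1 := congrArg (b⁻¹ • ·) h
    simp only [smul_add, smul_smul, inv_mul_cancel₀ hb, one_smul, smul_zero] at h1
    rw [hl, neg_smul]
    exact eq_neg_of_add_eq_zero_right h1
  have hQ : C.w B * C.w A = -(l • 1) := by
    rw [C.w_swap A B, hAB, mul_zero, zero_smul, zero_sub, hP]
  have hl0 : l = 0 := by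
    have e : C.w A * C.w B * C.w A = C.w A * (C.w B * C.w A) := mul_assoc _ _ _
    rw [hP, hQ, Matrix.smul_mul, one_mul, mul_neg, Matrix.mul_smul, mul_one] at e
    have h0 : C.w ((2 * l) • A) = 0 := by
      rw [w_smul, mul_smul, two_smul]
      nth_rewrite 2 [e]
      exact add_neg_cancel _
    have := C.w_eq_zero h0
    simpa [hA, C.h2] using this
  rw [hl0, zero_smul] at hP
  have key : ∀ i, (A i) • B = (B i) • A := fun i => by
    refine C.w_inj ?_
    have e : C.G i * (C.w A * C.w B) = 0 := by rw [hP, mul_zero]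
    have s1 : C.G i * C.w A = (2 * A i) • 1 - C.w A * C.G i := by
      rw [← C.w_single i, C.w_swap A, dotProduct_single, mul_one]
    have s2 : C.G i * C.w B = (2 * B i) • 1 - C.w B * C.G i := by
      rw [← C.w_single i, C.w_swap B, dotProduct_single, mul_one]
    rw [← mul_assoc, s1, sub_mul, Matrix.smul_mul, one_mul, mul_assoc, s2, mul_sub, Matrix.mul_smul,
      mul_one, ← mul_assoc, hP, zero_mul, sub_zero, mul_smul, mul_smul, ← smul_sub] at e
    rw [w_smul, w_smul]
    exact sub_eq_zero.mp ((smul_eq_zero.mp e).resolve_left C.h2)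
  obtain ⟨i, hi⟩ : ∃ i, A i ≠ 0 := by
    by_contra hc; push Not at hc; exact hA (funext hc)
  have hBA : B = ((A i)⁻¹ * B i) • A := by rw [mul_smul, ← key i, inv_smul_smul₀ hi]
  set r := (A i)⁻¹ * B i
  rw [hBA] at hAB hu
  simp only [dotProduct_smul, smul_eq_mul, add_dotProduct, dotProduct_add, smul_dotProduct] at hAB hu
  rcases mul_eq_zero.mp hAB with h0 | h0
  · exact hB (by rw [hBA, h0, zero_smul])
  · rw [h0] at hu; simp at hu

end Cl

/-- A group containing the family and the three-cycles on it and preserving its span. -/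
structure Over (C : Cl F n ι) (M : Subgroup (GL ι F)) : Prop where
  mem : ∀ i, ∃ g ∈ M, (g : Matrix ι ι F) = C.G i
  neg : (-1 : GL ι F) ∈ M
  cyc : ∀ a b c : Fin n, a ≠ b → b ≠ c → a ≠ c →
    ∃ g ∈ M, (g : Matrix ι ι F) = (2 : F)⁻¹ • ((1 + C.G a * C.G b) * (1 + C.G b * C.G c))
  span : ∀ g ∈ M, ∀ c, ∃ c', (g : Matrix ι ι F) * C.w c = C.w c' * (g : Matrix ι ι F)
  scal : ∀ g ∈ M, ∀ s : F, (g : Matrix ι ι F) = s • (1 : Matrix ι ι F) → s = 1 ∨ s = -1

/-- The unit vectors in the group. -/
def units (C : Cl F n ι) (M : Subgroup (GL ι F)) : Set (Fin n → F) :=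
  {c | c ⬝ᵥ c = 1 ∧ ∃ g ∈ M, (g : Matrix ι ι F) = C.w c}

/-- `x` moved along the cycle sending `a` to `b`, `b` to `c`, `c` to `a`. -/
def cyc3 (a b c : Fin n) (x : Fin n → F) : Fin n → F :=
  fun j => x (if j = a then c else if j = b then a else if j = c then b else j)

namespace Over

variable {C : Cl F n ι} {M : Subgroup (GL ι F)} (O : Over C M)

include O

theorem dot_map [Nonempty ι] {g : GL ι F} {c c' d d' : Fin n → F}
    (hc : (g : Matrix ι ι F) * C.w c = C.w c' * (g : Matrix ι ι F))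
    (hd : (g : Matrix ι ι F) * C.w d = C.w d' * (g : Matrix ι ι F)) : c' ⬝ᵥ d' = c ⬝ᵥ d := by
  have e : (g : Matrix ι ι F) * (C.w c * C.w d + C.w d * C.w c) =
      (C.w c' * C.w d' + C.w d' * C.w c') * (g : Matrix ι ι F) := by
    have key : ∀ {X Y X' Y' : Matrix ι ι F}, (g : Matrix ι ι F) * X = X' * (g : Matrix ι ι F) →
        (g : Matrix ι ι F) * Y = Y' * (g : Matrix ι ι F) →
        (g : Matrix ι ι F) * (X * Y) = X' * Y' * (g : Matrix ι ι F) := fun h1 h2 => by
      rw [← mul_assoc, h1, mul_assoc, h2, mul_assoc]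
    rw [mul_add, add_mul, key hc hd, key hd hc]
  rw [C.w_mul_add, C.w_mul_add, Matrix.mul_smul, mul_one, Matrix.smul_mul, one_mul] at e
  exact (mul_left_cancel₀ C.h2 (smul_left_injective F g.ne_zero e)).symm

theorem map_mem [Nonempty ι] {g : GL ι F} (hg : g ∈ M) {c c' : Fin n → F} (hc : c ∈ units C M)
    (h : (g : Matrix ι ι F) * C.w c = C.w c' * (g : Matrix ι ι F)) : c' ∈ units C M := by
  obtain ⟨h1, x, hx, hxw⟩ := hc
  refine ⟨(O.dot_map h h).trans h1, g * x * g⁻¹, mul_mem (mul_mem hg hx) (inv_mem hg), ?_⟩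
  rw [Units.val_mul, Units.val_mul, hxw, h, mul_assoc, Units.mul_inv, mul_one]

theorem single_mem (i : Fin n) : (Pi.single i 1 : Fin n → F) ∈ units C M := by
  obtain ⟨g, hg, e⟩ := O.mem i
  exact ⟨by simp, g, hg, by rw [e, C.w_single]⟩

theorem neg_mem {c : Fin n → F} (hc : c ∈ units C M) : -c ∈ units C M := by
  obtain ⟨h1, g, hg, e⟩ := hc
  exact ⟨by simpa using h1, -1 * g, mul_mem O.neg hg,
    by rw [Units.val_mul, Units.val_neg, Units.val_one, e, C.w_neg, neg_one_mul]⟩

theorem refl_mem {u v : Fin n → F} (hu : u ∈ units C M) (hv : v ∈ units C M) :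
    (2 * (u ⬝ᵥ v)) • u - v ∈ units C M := by
  obtain ⟨h1, g, hg, eg⟩ := hu
  obtain ⟨h2, x, hx, ex⟩ := hv
  refine ⟨?_, g * x * g, mul_mem (mul_mem hg hx) hg, ?_⟩
  · simp only [sub_dotProduct, dotProduct_sub, smul_dotProduct, dotProduct_smul, h1, h2, smul_eq_mul,
      dotProduct_comm v u]
    ring
  · rw [Units.val_mul, Units.val_mul, eg, ex, C.w_sandwich, h1, one_smul]

theorem flip_mem {x : Fin n → F} (hx : x ∈ units C M) (a : Fin n) :
    Function.update x a (-x a) ∈ units C M := by
  convert O.neg_mem (O.refl_mem (O.single_mem a) hx) using 1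
  funext j
  rcases eq_or_ne j a with rfl | hj
  · simp; ring
  · simp [hj]

theorem flips_mem {x : Fin n → F} (hx : x ∈ units C M) (S : Finset (Fin n)) :
    (fun j => if j ∈ S then -x j else x j) ∈ units C M := by
  classical
  induction S using Finset.induction with
  | empty => simpa using hx
  | insert a S ha ih =>
    convert O.flip_mem ih a using 1
    funext j
    rcases eq_or_ne j a with rfl | hj
    · simp [ha]
    · simp [hj]

theorem cyc_mem [Nonempty ι] {x : Fin n → F} (hx : x ∈ units C M) {a b c : Fin n} (hab : a ≠ b)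
    (hbc : b ≠ c) (hac : a ≠ c) : cyc3 a b c x ∈ units C M := by
  classical
  obtain ⟨g, hg, eg⟩ := O.cyc a b c hab hbc hac
  have e1 : ∀ {i j : Fin n}, i ≠ j → (1 + C.G i * C.G j) * C.G i = -(C.G j * (1 + C.G i * C.G j)) := fun {i j} h => by
    rw [add_mul, mul_add, mul_one, one_mul, mul_assoc, C.anti j i h.symm, mul_neg, ← mul_assoc, C.sq,
      one_mul, ← mul_assoc, C.anti j i h.symm, neg_mul, mul_assoc, C.sq, mul_one]
    abel
  have e2 : ∀ {i j : Fin n}, i ≠ j → (1 + C.G i * C.G j) * C.G j = C.G i * (1 + C.G i * C.G j) := fun {i j} _ => by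
    rw [add_mul, mul_add, mul_one, one_mul, mul_assoc, C.sq, mul_one, ← mul_assoc, C.sq, one_mul]
    abel
  have e3 : ∀ {i j k : Fin n}, k ≠ i → k ≠ j →
      (1 + C.G i * C.G j) * C.G k = C.G k * (1 + C.G i * C.G j) := fun {i j k} hi hj => by
    rw [add_mul, mul_add, mul_one, one_mul, mul_assoc, C.anti j k hj.symm, mul_neg, ← mul_assoc,
      C.anti i k hi.symm, neg_mul, neg_neg, mul_assoc]
  let π : Fin n → Fin n := fun j => if j = a then b else if j = b then c else if j = c then a else j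
  let sg : Fin n → F := fun j => if j = a ∨ j = b then -1 else 1
  have hG : ∀ j, (g : Matrix ι ι F) * C.G j = sg j • (C.G (π j) * (g : Matrix ι ι F)) := by
    intro j
    rw [eg, Matrix.smul_mul, Matrix.mul_smul, smul_comm, mul_assoc (1 + C.G a * C.G b)]
    congr 1
    simp only [sg, π]
    by_cases ha : j = a
    · subst ha
      rw [e3 hab hac, ← mul_assoc, e1 hab]
      simp [mul_assoc]
    by_cases hb : j = b
    · subst hb
      rw [e1 hbc, mul_neg, ← mul_assoc, e3 hac.symm hbc.symm]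
      simp [ha, mul_assoc]
    by_cases hc : j = c
    · subst hc
      rw [e2 hbc, ← mul_assoc, e2 hab]
      simp [ha, hb, mul_assoc]
    · rw [e3 hb hc, ← mul_assoc, e3 ha hb]
      simp [ha, hb, hc, mul_assoc]
  set y : Fin n → F := ∑ j, (x j * sg j) • (Pi.single (π j) 1 : Fin n → F) with hy
  have hyw : (g : Matrix ι ι F) * C.w x = C.w y * (g : Matrix ι ι F) := by
    have : C.w y = ∑ j, (x j * sg j) • C.G (π j) := by
      rw [hy]
      refine (map_sum (⟨⟨C.w, C.w_zero⟩, C.w_add⟩ : (Fin n → F) →+ Matrix ι ι F) _ _).trans ?_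
      refine Finset.sum_congr rfl fun j _ => ?_
      show C.w _ = _
      rw [C.w_smul, C.w_single]
    rw [this, Cl.w, Finset.mul_sum, Finset.sum_mul]
    refine Finset.sum_congr rfl fun j _ => ?_
    rw [Matrix.mul_smul, Matrix.smul_mul, hG, smul_smul]
  have hym := O.map_mem hg hx hyw
  have hπ : ∀ j k, π j = k ↔ j = if k = a then c else if k = b then a else if k = c then b else k := by
    intro j k
    simp only [π]
    grind
  have hyk : ∀ k, y k = sg (if k = a then c else if k = b then a else if k = c then b else k) *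
      cyc3 a b c x k := by
    intro k
    rw [hy, Finset.sum_apply, Finset.sum_eq_single (if k = a then c else if k = b then a else if k = c then b else k)]
    · have := (hπ _ k).mpr rfl
      simp [this, cyc3, mul_comm]
    · intro j _ hj
      have hne : π j ≠ k := fun h => hj ((hπ j k).mp h)
      simp [Ne.symm hne]
    · simp
  convert O.flips_mem hym {b, c} using 1
  funext k
  rw [hyk]
  simp only [Finset.mem_insert, Finset.mem_singleton, sg]
  by_cases hka : k = a
  · subst hka; simp [hab, hac, Ne.symm hac, Ne.symm hbc]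
  by_cases hkb : k = b
  · subst hkb; simp [hka]
  by_cases hkc : k = c
  · subst hkc; simp [hka, hkb]
  · simp [hka, hkb, hkc]

/-- The dihedral alternative: from `A + B` and `B - A`, orthogonal parts. -/
theorem dihedral [Nonempty ι] [Finite F] {A B : Fin n → F} (hu : A + B ∈ units C M)
    (hv : B - A ∈ units C M) (hAB : A ⬝ᵥ B = 0) :
    (∃ k : F, k • A ∈ units C M) ∨ (∃ k : F, k • B ∈ units C M) ∨
      (A ⬝ᵥ A ≠ 0 ∧ B ⬝ᵥ B ≠ 0 ∧
        ∀ c ∈ units C M, c ⬝ᵥ A = 0 → c - (2 * (c ⬝ᵥ B) / (B ⬝ᵥ B)) • B ∈ units C M) := by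
  classical
  by_cases hA : A = 0
  · exact Or.inr (Or.inl ⟨1, by simpa [hA] using hu⟩)
  by_cases hB : B = 0
  · exact Or.inl ⟨1, by simpa [hB] using hu⟩
  obtain ⟨hu1, U, hU, eU⟩ := hu
  obtain ⟨hv1, V, hV, eV⟩ := hv
  set α := A ⬝ᵥ A with hα
  set β := B ⬝ᵥ B with hβ
  set P := C.w A * C.w B with hP
  have hBA : C.w B * C.w A = -P := by
    rw [C.w_swap A B, hAB, mul_zero, zero_smul, zero_sub]
  have hsum : α + β = 1 := by
    rw [← hu1]
    simp only [add_dotProduct, dotProduct_add, dotProduct_comm B A, hAB, ← hα, ← hβ]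
    ring
  have hPP : P * P = (-(α * β)) • 1 := by
    rw [hP, mul_assoc, ← mul_assoc (C.w B) (C.w A), hBA, hP, neg_mul, mul_assoc, C.w_sq, Matrix.mul_smul,
      mul_one, mul_neg, Matrix.mul_smul, C.w_sq, smul_smul, ← hα, ← hβ, neg_smul, mul_comm]
  set T := U * V with hT
  have eT : (T : Matrix ι ι F) = (β - α) • 1 + (2 : F) • P := by
    rw [hT, Units.val_mul, eU, eV, C.w_add, C.w_sub, add_mul, mul_sub, mul_sub, C.w_sq, C.w_sq, hBA,
      ← hP, ← hα, ← hβ, two_smul, sub_smul]
    abel
  have hpow : ∀ k : ℕ, ∃ s t : F, ((T ^ k : GL ι F) : Matrix ι ι F) = s • 1 + t • P := by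
    intro k
    induction k with
    | zero => exact ⟨1, 0, by simp⟩
    | succ k ih =>
      obtain ⟨s, t, e⟩ := ih
      refine ⟨s * (β - α) - 2 * t * (α * β), 2 * s + t * (β - α), ?_⟩
      rw [pow_succ, Units.val_mul, e, eT]
      simp only [add_mul, mul_add, Matrix.smul_mul, Matrix.mul_smul, one_mul, mul_one, hPP, smul_smul]
      module
  have hUU : U * U = 1 := Units.ext (by rw [Units.val_mul, eU, C.w_sq, hu1, one_smul, Units.val_one])
  have hVV : V * V = 1 := Units.ext (by rw [Units.val_mul, eV, C.w_sq, hv1, one_smul, Units.val_one])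
  have hUT : ∀ k : ℕ, U * T ^ k * U = (T ^ k)⁻¹ := fun k => by
    have hUi : U⁻¹ = U := inv_eq_of_mul_eq_one_right hUU
    have hVi : V⁻¹ = V := inv_eq_of_mul_eq_one_right hVV
    have h := (conj_pow (a := U) (b := T) (i := k)).symm
    rw [hUi] at h
    rw [h, show U * T * U = T⁻¹ by rw [hT, _root_.mul_inv_rev, hUi, hVi, ← mul_assoc, hUU, one_mul], inv_pow]
  haveI : Finite (GL ι F) := inferInstance
  have hex : ∃ k, 0 < k ∧ ∃ e : F, ((T ^ k : GL ι F) : Matrix ι ι F) = e • 1 :=
    ⟨orderOf T, (isOfFinOrder_of_finite T).orderOf_pos, 1, by simp [pow_orderOf_eq_one]⟩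
  set k := Nat.find hex with hk
  obtain ⟨hk0, e, he⟩ := Nat.find_spec hex
  rw [← hk] at hk0 he
  rcases Nat.even_or_odd k with ⟨m, hm⟩ | ⟨m, hm⟩
  · refine Or.inr (Or.inr ?_)
    obtain ⟨s, t, hst⟩ := hpow m
    have ht : t ≠ 0 := fun h => by
      have hmin := Nat.find_min hex (show m < Nat.find hex by rw [← hk]; omega)
      exact hmin ⟨by omega, s, by rw [hst, h, zero_smul, add_zero]⟩
    rw [hm, pow_add, Units.val_mul, hst] at he
    simp only [add_mul, mul_add, Matrix.smul_mul, Matrix.mul_smul, one_mul, mul_one, hPP, smul_smul] at he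
    have hlin : (s * s + t * t * -(α * β) - e) • (1 : Matrix ι ι F) + (2 * s * t) • P = 0 := by
      rw [← sub_eq_zero.mpr he]; module
    obtain ⟨h1, h2⟩ := C.pair_indep hAB hA hB hu1 hlin
    have hs : s = 0 := by
      rcases mul_eq_zero.mp h2 with h | h
      · exact (mul_eq_zero.mp h).resolve_left C.h2
      · exact absurd h ht
    rw [hs, zero_smul, zero_add] at hst
    have hab : α * β ≠ 0 := fun h => by
      have hz : ((T ^ m * T ^ m : GL ι F) : Matrix ι ι F) = 0 := by
        rw [Units.val_mul, hst, Matrix.smul_mul, Matrix.mul_smul, hPP, h, neg_zero, zero_smul, smul_zero, smul_zero]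
      exact (T ^ m * T ^ m).ne_zero hz
    refine ⟨left_ne_zero_of_mul hab, right_ne_zero_of_mul hab, fun c hc hcA => ?_⟩
    refine O.map_mem (pow_mem (mul_mem hU hV : T ∈ M) m) hc ?_
    have hAc : C.w A * C.w c = -(C.w c * C.w A) := by
      rw [C.w_swap c A, hcA, mul_zero, zero_smul, zero_sub]
    rw [hst, Matrix.smul_mul, Matrix.mul_smul]
    congr 1
    rw [C.w_sub, C.w_smul, hP, mul_assoc, C.w_swap c B, mul_sub, Matrix.mul_smul, mul_one,
      ← mul_assoc (C.w A), hAc, neg_mul, sub_mul, Matrix.smul_mul, ← mul_assoc (C.w B) (C.w A), hBA, hP,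
      neg_mul, mul_assoc (C.w A) (C.w B) (C.w B), C.w_sq, Matrix.mul_smul, mul_one, smul_neg, smul_smul,
      ← hβ, div_mul_cancel₀ _ (right_ne_zero_of_mul hab), mul_assoc (C.w c)]
    abel
  · obtain ⟨s, t, hst⟩ := hpow m
    rw [hm, two_mul, pow_succ, pow_add, Units.val_mul, Units.val_mul, hst, eT] at he
    simp only [add_mul, mul_add, Matrix.smul_mul, Matrix.mul_smul, one_mul, mul_one, hPP, smul_smul,
      smul_add] at he
    have hlin : ((s * s - t * t * (α * β)) * (β - α) - 4 * (s * t) * (α * β) - e) • (1 : Matrix ι ι F) +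
        (2 * (s * s - t * t * (α * β)) + 2 * (s * t) * (β - α)) • P = 0 := by
      rw [← sub_eq_zero.mpr he]; module
    obtain ⟨-, h2⟩ := C.pair_indep hAB hA hB hu1 hlin
    have hprod : (s + t * β) * (s - t * α) = 0 :=
      (mul_eq_zero.mp (show 2 * ((s + t * β) * (s - t * α)) = 0 by linear_combination h2)).resolve_left C.h2
    set x := (s + t * β) • A + (s - t * α) • B with hx
    have ex : ((T ^ m * U : GL ι F) : Matrix ι ι F) = C.w x := by
      rw [Units.val_mul, hst, eU, hx, C.w_add, C.w_add, C.w_smul, C.w_smul]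
      have pA : P * C.w A = -(α • C.w B) := by
        rw [hP, mul_assoc, hBA, hP, mul_neg, ← mul_assoc, C.w_sq, Matrix.smul_mul, one_mul]
      have pB : P * C.w B = β • C.w A := by
        rw [hP, mul_assoc, C.w_sq, Matrix.mul_smul, mul_one]
      simp only [add_mul, mul_add, Matrix.smul_mul, one_mul, pA, pB, smul_neg, smul_smul]
      module
    have hxM : x ∈ units C M := by
      refine ⟨?_, T ^ m * U, mul_mem (pow_mem (mul_mem hU hV : T ∈ M) m) hU, ex⟩
      have h1 : (T ^ m * U) * (T ^ m * U) = 1 := by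
        rw [show (T ^ m * U) * (T ^ m * U) = T ^ m * (U * T ^ m * U) by group, hUT, mul_inv_cancel]
      have h2' := congrArg Units.val h1
      rw [Units.val_mul, ex, C.w_sq, Units.val_one] at h2'
      exact Cl.smul_one_inj (h2'.trans (one_smul F 1).symm)
    rcases mul_eq_zero.mp hprod with h | h
    · exact Or.inr (Or.inl ⟨s - t * α, by simpa [hx, h] using hxM⟩)
    · exact Or.inl ⟨s + t * β, by simpa [hx, h] using hxM⟩

end Over

end Cfsg.Agent.C6Units
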