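import Cfsg.Agent.C6Units.Triple

/-!
Five anticommuting involutions: without a big triple the unit vectors of the group are the
coordinate vectors and possibly the roots (helper32).
-/

set_option autoImplicit false
set_option linter.unusedSectionVars false
set_option linter.style.haveILetI false
set_option linter.unusedSimpArgs false

namespace Cfsg.Agent.C6Units

open Matrix

section Algebra

variable {F : Type*} [Field F]

/-- The golden condition. -/
def Gold (y : F) : Prop := y * y - 3 * y + 1 = 0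

/-- `m` in the middle of `x`, `z` in a golden progression. -/
def Geo1 (m x z : F) : Prop := x + z = 3 * m ∧ x * z = m * m

/-- A golden progression in some order. -/
def Geo (x y z : F) : Prop := Geo1 x y z ∨ Geo1 y x z ∨ Geo1 z x y

theorem Geo1.smul {m x z : F} (h : Geo1 m x z) (k : F) : Geo1 (k * m) (k * x) (k * z) :=
  ⟨by linear_combination k * h.1, by linear_combination k * k * h.2⟩

theorem Geo.smul {x y z : F} (h : Geo x y z) (k : F) : Geo (k * x) (k * y) (k * z) :=
  h.imp (·.smul k) (Or.imp (·.smul k) (·.smul k))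

theorem Geo.of_smul {x y z k : F} (hk : k ≠ 0) (h : Geo (k * x) (k * y) (k * z)) : Geo x y z := by
  simpa [← mul_assoc, inv_mul_cancel₀ hk] using h.smul k⁻¹

theorem Geo1.inv {m x z : F} (h : Geo1 m x z) (hx : x ≠ 0) (hz : z ≠ 0) (hm : m ≠ 0) :
    Geo1 m⁻¹ x⁻¹ z⁻¹ := by
  constructor
  · field_simp
    linear_combination m * h.1 - 3 * h.2
  · rw [← mul_inv, ← mul_inv, h.2]

theorem Geo.inv {x y z : F} (h : Geo x y z) (hx : x ≠ 0) (hy : y ≠ 0) (hz : z ≠ 0) : Geo x⁻¹ y⁻¹ z⁻¹ :=
  h.imp (·.inv hy hz hx) (Or.imp (·.inv hx hz hy) (·.inv hx hy hz))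

theorem Geo1.ne (h5 : (5 : F) ≠ 0) {m x z : F} (h : Geo1 m x z) (hm : m ≠ 0) (hx : x ≠ 0) : m ≠ x ∧ m ≠ z ∧ x ≠ z := by
  obtain ⟨h1, h2⟩ := h
  refine ⟨fun e => hm ?_, fun e => hm ?_, fun e => ?_⟩
  · subst e
    have hz : z = 2 * m := by linear_combination h1
    rw [hz] at h2
    have h0 : m * m = 0 := by linear_combination h2
    exact mul_self_eq_zero.mp h0
  · subst e
    have hz : x = 2 * m := by linear_combination h1
    rw [hz] at h2
    have h0 : m * m = 0 := by linear_combination h2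
    exact mul_self_eq_zero.mp h0
  · subst e
    rcases mul_self_eq_mul_self_iff.mp h2 with e' | e'
    · subst e'
      exact hx (show x = 0 by linear_combination -h1)
    · have h0 : 5 * m = 0 := by linear_combination -h1 + 2 * e'
      exact mul_ne_zero h5 hm h0

theorem Geo.ne (h5 : (5 : F) ≠ 0) {x y z : F} (h : Geo x y z) (hx : x ≠ 0) (hy : y ≠ 0) (hz : z ≠ 0) :
    x ≠ y ∧ x ≠ z ∧ y ≠ z := by
  rcases h with h | h | h
  · obtain ⟨a, b, c⟩ := h.ne h5 hx hy; exact ⟨a, b, c⟩
  · obtain ⟨a, b, c⟩ := h.ne h5 hy hx; exact ⟨a.symm, c, b⟩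
  · obtain ⟨a, b, c⟩ := h.ne h5 hz hx; exact ⟨c, a.symm, b.symm⟩

/-- Three elements completing `x`, `y` cannot be distinct. -/
theorem geo_three (h3 : (3 : F) ≠ 0) (h2 : (2 : F) ≠ 0) {x y u v w : F} (hx : x ≠ 0) (hy : y ≠ 0)
    (hu : Geo x y u) (hv : Geo x y v) (hw : Geo x y w) (huv : u ≠ v) (huw : u ≠ w) (hvw : v ≠ w) : False := by
  by_cases hmid : x * x + y * y = 7 * (x * y)
  · have key : ∀ t, Geo x y t → 3 * t = x + y := by
      intro t ht
      rcases ht with ⟨a, b⟩ | ⟨a, b⟩ | ⟨a, -⟩
      · exfalso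
        have : (2 * 2) * (x * y) = 0 := by linear_combination -hmid - b + y * a
        simp [h2, hx, hy] at this
      · exfalso
        have : (2 * 2) * (x * y) = 0 := by linear_combination -hmid - b + x * a
        simp [h2, hx, hy] at this
      · linear_combination -a
    exact huv (mul_left_cancel₀ h3 ((key u hu).trans (key v hv).symm))
  · have key : ∀ t, Geo x y t → t = 3 * x - y ∨ t = 3 * y - x := by
      intro t ht
      rcases ht with ⟨a, -⟩ | ⟨a, -⟩ | ⟨a, b⟩
      · exact Or.inl (by linear_combination a)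
      · exact Or.inr (by linear_combination a)
      · exact absurd (by linear_combination (x + y + 3 * t) * a - 9 * b) hmid
    rcases key u hu with a | a <;> rcases key v hv with b | b <;> rcases key w hw with c | c <;>
      first
        | exact huv (a.trans b.symm)
        | exact huw (a.trans c.symm)
        | exact hvw (b.trans c.symm)

theorem not_gold_one : ¬ Gold (1 : F) := fun h => by
  simp only [Gold] at h
  exact one_ne_zero (show (1 : F) = 0 by linear_combination -h)

theorem not_gold_two : ¬ Gold (2 : F) := fun h => by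
  simp only [Gold] at h
  exact one_ne_zero (show (1 : F) = 0 by linear_combination -h)

theorem not_gold_three : ¬ Gold (3 : F) := fun h => by
  simp only [Gold] at h
  exact one_ne_zero (show (1 : F) = 0 by linear_combination h)

theorem gold_two {x y : F} (hx : Gold x) (hy : Gold y) : x = y ∨ x + y = 3 := by
  simp only [Gold] at hx hy
  rcases mul_eq_zero.mp (show (x - y) * (x + y - 3) = 0 by linear_combination hx - hy) with h | h
  · exact Or.inl (sub_eq_zero.mp h)
  · exact Or.inr (sub_eq_zero.mp h)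

theorem gold_geo {x y : F} (hx : Gold x) (hy : Gold y) (h : x + y = 3) : Geo1 1 x y := by
  simp only [Gold] at hx
  refine ⟨by linear_combination h, ?_⟩
  linear_combination x * h - hx

/-- Three distinct values in `{1} ∪ Gold`. -/
theorem val_three {x y z : F} (hx : x = 1 ∨ Gold x) (hy : y = 1 ∨ Gold y) (hz : z = 1 ∨ Gold z)
    (hxy : x ≠ y) (hxz : x ≠ z) (hyz : y ≠ z) : Geo x y z := by
  rcases hx with rfl | hx <;> rcases hy with rfl | hy <;> rcases hz with rfl | hz <;>
    first
      | exact absurd rfl hxy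
      | exact absurd rfl hxz
      | exact absurd rfl hyz
      | skip
  · exact Or.inl (gold_geo hy hz ((gold_two hy hz).resolve_left hyz))
  · exact Or.inr (Or.inl (gold_geo hx hz ((gold_two hx hz).resolve_left hxz)))
  · exact Or.inr (Or.inr (gold_geo hx hy ((gold_two hx hy).resolve_left hxy)))
  · exact absurd (show y = z by
      linear_combination (gold_two hx hy).resolve_left hxy - (gold_two hx hz).resolve_left hxz) hyz

/-- Squared doubled coordinates of a unit vector of icosahedral type. -/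
theorem gold_sum (h5 : (5 : F) ≠ 0) {x y z : F} (hx : x = 1 ∨ Gold x) (hy : y = 1 ∨ Gold y)
    (hz : z = 1 ∨ Gold z) (hsum : x + y + z = 4) : (x = y ∧ y = z ∧ Gold x) ∨ Geo x y z := by
  have two : ∀ {a b : F}, Gold a → Gold b → a + b = 3 → Geo1 1 a b := fun ha hb h => gold_geo ha hb h
  rcases hx with rfl | hx <;> rcases hy with rfl | hy <;> rcases hz with rfl | hz
  · exact absurd (show (1 : F) = 0 by linear_combination -hsum) one_ne_zero
  · exact absurd (show z = 2 by linear_combination hsum) fun e => not_gold_two (e ▸ hz)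
  · exact absurd (show y = 2 by linear_combination hsum) fun e => not_gold_two (e ▸ hy)
  · exact Or.inr (Or.inl (two hy hz (by linear_combination hsum)))
  · exact absurd (show x = 2 by linear_combination hsum) fun e => not_gold_two (e ▸ hx)
  · exact Or.inr (Or.inr (Or.inl (two hx hz (by linear_combination hsum))))
  · exact Or.inr (Or.inr (Or.inr (two hx hy (by linear_combination hsum))))
  · have hne : ∀ {a : F}, Gold a → a ≠ 1 := fun ha e => not_gold_one (e ▸ ha)
    rcases gold_two hx hy with e | e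
    · rcases gold_two hy hz with e' | e'
      · exact Or.inl ⟨e, e', hx⟩
      · exact absurd (show x = 1 by linear_combination hsum - e') (hne hx)
    · exact absurd (show z = 1 by linear_combination hsum - e) (hne hz)

end Algebra

section Five

variable {F : Type*} [Field F] [Fintype F] {ι : Type*} [Fintype ι] [DecidableEq ι] [Nonempty ι]
variable {C : Cl F 5 ι} {M : Subgroup (GL ι F)}

/-- Five distinct indices. -/
structure Five (a b c d e : Fin 5) : Prop where
  ab : a ≠ b
  ac : a ≠ c
  ad : a ≠ d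
  ae : a ≠ e
  bc : b ≠ c
  bd : b ≠ d
  be : b ≠ e
  cd : c ≠ d
  ce : c ≠ e
  de : d ≠ e

theorem Five.cover {a b c d e : Fin 5} (h : Five a b c d e) (j : Fin 5) :
    j = a ∨ j = b ∨ j = c ∨ j = d ∨ j = e := by
  obtain ⟨h1, h2, h3, h4, h5, h6, h7, h8, h9, h10⟩ := h
  omega

theorem Five.sum {a b c d e : Fin 5} (h : Five a b c d e) {A : Type*} [AddCommMonoid A] (f : Fin 5 → A) :
    ∑ j, f j = f a + f b + f c + f d + f e := by
  classical
  have hu : (Finset.univ : Finset (Fin 5)) = {a, b, c, d, e} := by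
    ext j
    simp only [Finset.mem_univ, Finset.mem_insert, Finset.mem_singleton, true_iff]
    exact h.cover j
  rw [hu]
  simp [h.ab, h.ac, h.ad, h.ae, h.bc, h.bd, h.be, h.cd, h.ce, h.de, add_assoc]

theorem Five.dot {a b c d e : Fin 5} (h : Five a b c d e) (x y : Fin 5 → F) :
    x ⬝ᵥ y = x a * y a + x b * y b + x c * y c + x d * y d + x e * y e := h.sum _

theorem exists_five {a b c : Fin 5} (hab : a ≠ b) (hac : a ≠ c) (hbc : b ≠ c) :
    ∃ d e, Five a b c d e := by
  obtain ⟨d, hd1, hd2, hd3⟩ : ∃ d : Fin 5, d ≠ a ∧ d ≠ b ∧ d ≠ c := by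
    revert a b c; decide
  obtain ⟨e, he1, he2, he3, he4⟩ : ∃ e : Fin 5, e ≠ a ∧ e ≠ b ∧ e ≠ c ∧ e ≠ d := by
    clear hd1 hd2 hd3 hab hac hbc
    revert a b c d; decide
  exact ⟨d, e, hab, hac, hd1.symm, he1.symm, hbc, hd2.symm, he2.symm, hd3.symm, he3.symm, he4.symm⟩

theorem cyc3_apply {a b c : Fin 5} (hab : a ≠ b) (hbc : b ≠ c) (hac : a ≠ c) (x : Fin 5 → F) :
    cyc3 a b c x a = x c ∧ cyc3 a b c x b = x a ∧ cyc3 a b c x c = x b ∧
      ∀ j, j ≠ a → j ≠ b → j ≠ c → cyc3 a b c x j = x j := by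
  refine ⟨by simp [cyc3], by simp [cyc3, hab.symm], by simp [cyc3, hac.symm, hbc.symm],
    fun j ha hb hc => by simp [cyc3, ha, hb, hc]⟩

/-- The condition on traces of one triple. -/
def Small (C : Cl F 5 ι) (M : Subgroup (GL ι F)) : Prop :=
  ∀ a b c : Fin 5, a ≠ b → b ≠ c → a ≠ c →
    SmallTr C M a b c (fun y => y = 0 ∨ y = 1 ∨ y = 2) ∨
      ((5 : F) ≠ 0 ∧ SmallTr C M a b c (fun y => y = 0 ∨ y = 1 ∨ Gold y))

variable (O : Over C M) (h3 : (3 : F) ≠ 0) (hS : Small C M)
include O h3 hS

theorem inM_unit {u : Fin 5 → F} (hu : u ∈ units C M) {a b c d e : Fin 5} (h : Five a b c d e)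
    (hd : u d = 0) (he : u e = 0) :
    InM C M a b c ![u c, 0, u b, u a] ∧ qnorm ![u c, 0, u b, u a] = 1 := by
  obtain ⟨hu1, g, hg, eg⟩ := hu
  obtain ⟨x, hx, ex⟩ := O.mem c
  refine ⟨⟨g * x, mul_mem hg hx, ?_⟩, ?_⟩
  · rw [Units.val_mul, eg, ex, Cl.w, h.sum, hd, he, zero_smul, zero_smul, add_zero, add_zero]
    simp only [Qa, Matrix.cons_val_zero, Matrix.cons_val_one, Matrix.cons_val, zero_smul, add_zero, add_mul,
      Matrix.smul_mul, C.sq]
    rw [mul_assoc (C.G a) (C.G b), ← mul_assoc (C.G b) (C.G b), C.sq, one_mul]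
    abel
  · rw [h.dot, hd, he] at hu1
    simp [qnorm]
    linear_combination hu1

/-- The three coordinates of a vector of the triple, seen in one triple. -/
theorem coord_tr {u : Fin 5 → F} (hu : u ∈ units C M) {a b c d e : Fin 5} (h : Five a b c d e)
    (hd : u d = 0) (he : u e = 0) {P : F → Prop} (hP : SmallTr C M a b c P) :
    (u b ≠ 0 ∨ u c ≠ 0 → P (4 * (u a * u a))) ∧ (u a ≠ 0 ∨ u c ≠ 0 → P (4 * (u b * u b))) ∧
      (u a ≠ 0 ∨ u b ≠ 0 → P (4 * (u c * u c))) := by
  obtain ⟨h1, h2⟩ := inM_unit O h3 hS hu h hd he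
  have hI := inM_unitI (C := C) (M := M) (a := a) (b := b) (c := c) O
  have hJ := inM_unitJ (C := C) (M := M) (a := a) (b := b) (c := c) O
  have hK := hI.mul h.ab h.bc h.ac hJ
  refine ⟨fun hne => ?_, fun hne => ?_, fun hne => ?_⟩
  · have := hP _ (by rw [qnorm_mul, h2, qnorm_mul]; simp [qnorm]) (h1.mul h.ab h.bc h.ac hK)
      (by simp [qmul]; tauto)
    simp [qmul] at this
    convert this using 1
    ring
  · have := hP _ (by rw [qnorm_mul, h2]; simp [qnorm]) (h1.mul h.ab h.bc h.ac hJ)
      (by simp [qmul]; tauto)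
    simp [qmul] at this
    convert this using 1
    ring
  · have := hP _ h2 h1 (by simp; tauto)
    convert this using 1
    simp
    ring

theorem trick_tr {u : Fin 5 → F} (hu : u ∈ units C M) {a b c d e : Fin 5} (h : Five a b c d e)
    (hd : u d = 0) (he : u e = 0) (hc : u c ≠ 0) {P : F → Prop} (hP : SmallTr C M a b c P) :
    P ((u a + u b + u c) * (u a + u b + u c)) := by
  have h2' := C.h2
  have hv := O.flips_mem hu {a, b}
  obtain ⟨h1, h2⟩ := inM_unit O h3 hS hv h (by simp [h.ad.symm, h.bd.symm, hd]) (by simp [h.ae.symm, h.be.symm, he])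
  have hom := inM_omega O h.ab h.bc h.ac (C := C) (M := M)
  simp only [Finset.mem_insert, Finset.mem_singleton, true_or, or_true, h.ac.symm, h.bc.symm, or_self,
    if_true, if_false] at h1 h2
  have hn : qnorm (qmul ![u c, 0, -u b, -u a] ![(2 : F)⁻¹, 2⁻¹, 2⁻¹, 2⁻¹]) = 1 := by
    rw [qnorm_mul, h2, one_mul]; simp [qnorm]; field_simp; ring
  have := hP _ hn (h1.mul h.ab h.bc h.ac hom) (by
    by_contra hz
    push Not at hz
    obtain ⟨z1, -, z3⟩ := hz
    simp [qmul] at z1 z3
    field_simp at z1 z3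
    exact mul_ne_zero h2' hc (by linear_combination z1 + z3))
  simp [qmul] at this
  convert this using 1
  field_simp
  ring

/-- Vectors with two non-zero coordinates are roots, and their triples are octahedral. -/
theorem pair_root {u : Fin 5 → F} (hu : u ∈ units C M) {a b c d e : Fin 5} (h : Five a b c d e)
    (ha : u a ≠ 0) (hb : u b ≠ 0) (hc : u c = 0) (hd : u d = 0) (he : u e = 0) :
    2 * (u a * u a) = 1 ∧ 2 * (u b * u b) = 1 ∧
      ¬ SmallTr C M a b c (fun y => y = 0 ∨ y = 1 ∨ Gold y) := by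
  have h2 := C.h2
  have hsum : 4 * (u a * u a) + 4 * (u b * u b) = 4 := by
    have := hu.1
    rw [h.dot, hc, hd, he] at this
    linear_combination 4 * this
  have h4 : (4 : F) ≠ 0 := by rw [show (4 : F) = 2 * 2 by norm_num]; exact mul_ne_zero h2 h2
  have hA0 := mul_ne_zero h4 (mul_ne_zero ha ha)
  have hB0 := mul_ne_zero h4 (mul_ne_zero hb hb)
  have noA : ¬ SmallTr C M a b c (fun y => y = 0 ∨ y = 1 ∨ Gold y) := fun hP => by
    obtain ⟨ga, gb, -⟩ := coord_tr O h3 hS hu h hd he hP
    rcases (ga (Or.inl hb)).resolve_left hA0 with p | p <;>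
      rcases (gb (Or.inl ha)).resolve_left hB0 with q | q
    · exact h2 (by linear_combination p + q - hsum)
    · exact not_gold_three ((show 4 * (u b * u b) = 3 by linear_combination hsum - p) ▸ q)
    · exact not_gold_three ((show 4 * (u a * u a) = 3 by linear_combination hsum - q) ▸ p)
    · rcases gold_two p q with e | e
      · exact not_gold_two ((mul_left_cancel₀ h2 (show 2 * (4 * (u a * u a)) = 2 * 2 by
          linear_combination hsum + e)) ▸ p)
      · exact one_ne_zero (α := F) (by linear_combination e - hsum)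
  rcases hS a b c h.ab h.bc h.ac with hP | ⟨-, hP⟩
  · obtain ⟨ga, gb, -⟩ := coord_tr O h3 hS hu h hd he hP
    rcases (ga (Or.inl hb)).resolve_left hA0 with p | p <;>
      rcases (gb (Or.inl ha)).resolve_left hB0 with q | q
    · exact absurd (show (2 : F) = 0 by linear_combination p + q - hsum) h2
    · exact absurd (show (1 : F) = 0 by linear_combination p + q - hsum) one_ne_zero
    · exact absurd (show (1 : F) = 0 by linear_combination p + q - hsum) one_ne_zero
    · exact ⟨mul_left_cancel₀ h2 (by linear_combination p), mul_left_cancel₀ h2 (by linear_combination q), noA⟩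
  · exact absurd hP noA

/-- Three non-zero coordinates: a golden progression, in a triple of icosahedral type. -/
theorem three_geo {u : Fin 5 → F} (hu : u ∈ units C M) {a b c d e : Fin 5} (h : Five a b c d e)
    (ha : u a ≠ 0) (hb : u b ≠ 0) (hc : u c ≠ 0) (hd : u d = 0) (he : u e = 0) :
    (5 : F) ≠ 0 ∧ SmallTr C M a b c (fun y => y = 0 ∨ y = 1 ∨ Gold y) ∧
      Geo (u a * u a) (u b * u b) (u c * u c) ∧ ∀ t, 2 * (u t * u t) ≠ 1 := by
  classical
  have h2 := C.h2
  have h4 : (4 : F) ≠ 0 := by rw [show (4 : F) = 2 * 2 by norm_num]; exact mul_ne_zero h2 h2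
  have hsum : 4 * (u a * u a) + 4 * (u b * u b) + 4 * (u c * u c) = 4 := by
    have := hu.1
    rw [h.dot, hd, he] at this
    linear_combination 4 * this
  have x0 := mul_ne_zero h4 (mul_ne_zero ha ha)
  have y0 := mul_ne_zero h4 (mul_ne_zero hb hb)
  have z0 := mul_ne_zero h4 (mul_ne_zero hc hc)
  -- two coordinates may be made to cancel
  have cancel : ∀ {i j k : Fin 5}, Five i j k d e → ({i, j, k} : Finset (Fin 5)) = {a, b, c} →
      u i * u i = u j * u j → ∀ {P : F → Prop}, SmallTr C M a b c P → P (u k * u k) := by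
    intro i j k hh heq hij P hP
    obtain ⟨v, hv, hvd, hve, hvc, hsumv⟩ : ∃ v ∈ units C M, v d = 0 ∧ v e = 0 ∧ v c ≠ 0 ∧
        v i + v j + v k = u k := by
      rcases mul_self_eq_mul_self_iff.mp hij with hp | hm
      · refine ⟨_, O.flip_mem hu i, by simp [hh.ad.symm, hd], by simp [hh.ae.symm, he], ?_,
          by simp [hh.ab.symm, hh.ac.symm, hp]⟩
        by_cases hci : c = i
        · subst hci; simp [hc]
        · simp [hci, hc]
      · exact ⟨u, hu, hd, he, hc, by rw [hm]; ring⟩
    have hs : v a + v b + v c = v i + v j + v k := by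
      have e1 : ∑ t ∈ ({i, j, k} : Finset (Fin 5)), v t = v i + v j + v k := by
        simp [hh.ab, hh.ac, hh.bc, add_assoc]
      have e2 : ∑ t ∈ ({a, b, c} : Finset (Fin 5)), v t = v a + v b + v c := by
        simp [h.ab, h.ac, h.bc, add_assoc]
      rw [← e1, ← e2, heq]
    have := trick_tr O h3 hS hv h hvd hve hvc hP
    rwa [hs, hsumv] at this
  have hA : Five b c a d e := ⟨h.bc, h.ab.symm, h.bd, h.be, h.ac.symm, h.cd, h.ce, h.ad, h.ae, h.de⟩
  have hB : Five c a b d e := ⟨h.ac.symm, h.bc.symm, h.cd, h.ce, h.ab, h.ad, h.ae, h.bd, h.be, h.de⟩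
  have sA : ({b, c, a} : Finset (Fin 5)) = {a, b, c} := by ext t; simp; tauto
  have sB : ({c, a, b} : Finset (Fin 5)) = {a, b, c} := by ext t; simp; tauto
  rcases hS a b c h.ab h.bc h.ac with hP | ⟨h5, hP⟩
  · exfalso
    obtain ⟨ga, gb, gc⟩ := coord_tr O h3 hS hu h hd he hP
    have fin : ∀ {i j k : Fin 5}, Five i j k d e → ({i, j, k} : Finset (Fin 5)) = {a, b, c} →
        4 * (u i * u i) = 1 → 4 * (u j * u j) = 1 → 4 * (u k * u k) = 2 → False := by
      intro i j k hh heq hi hj hk
      rcases cancel hh heq (mul_left_cancel₀ h4 (hi.trans hj.symm)) hP with q | q | q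
      · rw [q] at hk; exact h2 (by linear_combination -hk)
      · rw [q] at hk; exact h2 (by linear_combination hk)
      · rw [q] at hk
        exact h3 ((mul_eq_zero.mp (show (2 : F) * 3 = 0 by linear_combination hk)).resolve_left h2)
    rcases (ga (Or.inl hb)).resolve_left x0 with p | p <;>
      rcases (gb (Or.inl ha)).resolve_left y0 with q | q <;>
      rcases (gc (Or.inl ha)).resolve_left z0 with r | r
    · exact one_ne_zero (α := F) (by linear_combination p + q + r - hsum)
    · exact fin h rfl p q r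
    · exact fin hB sB r p q
    · exact one_ne_zero (α := F) (by linear_combination hsum - p - q - r)
    · exact fin hA sA q r p
    · exact one_ne_zero (α := F) (by linear_combination hsum - p - q - r)
    · exact one_ne_zero (α := F) (by linear_combination hsum - p - q - r)
    · exact h2 (by linear_combination hsum - p - q - r)
  · obtain ⟨ga, gb, gc⟩ := coord_tr O h3 hS hu h hd he hP
    have hX := (ga (Or.inl hb)).resolve_left x0
    have hY := (gb (Or.inl ha)).resolve_left y0
    have hZ := (gc (Or.inl ha)).resolve_left z0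
    refine ⟨h5, hP, ?_, fun t ht => ?_⟩
    · rcases gold_sum h5 hX hY hZ hsum with ⟨e1, e2, gx⟩ | hg
      · exfalso
        set x := 4 * (u a * u a) with hx
        have hv := cancel h rfl (mul_left_cancel₀ h4 e1) hP
        have h3x : 3 * x = 4 := by linear_combination hsum + 2 * e1 + e2
        have hzx : 4 * (u c * u c) = x := (e1.trans e2).symm
        rcases hv with q | q | q
        · exact mul_ne_zero hc hc q
        · rw [q] at hzx
          exact (mul_ne_zero h4 h2) (by linear_combination h3x + 3 * hzx)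
        · simp only [Gold] at q
          have ht : 3 * (u c * u c) = 1 :=
            mul_left_cancel₀ h4 (by linear_combination h3x + 3 * hzx)
          exact one_ne_zero (α := F) (by linear_combination 9 * q - (3 * (u c * u c) - 8) * ht)
      · exact Geo.of_smul h4 hg
    · have ng : ∀ {v : F}, (v = 1 ∨ Gold v) → v ≠ 2 := fun hv e => by
        subst e
        rcases hv with q | q
        · exact one_ne_zero (α := F) (by linear_combination q)
        · exact not_gold_two q
      have ht' : 4 * (u t * u t) = 2 := by linear_combination 2 * ht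
      rcases h.cover t with rfl | rfl | rfl | rfl | rfl
      · exact ng hX ht'
      · exact ng hY ht'
      · exact ng hZ ht'
      · rw [hd] at ht; simp at ht
      · rw [he] at ht; simp at ht

/-- Every trace value of a triple containing a root is octahedral, so no three-vector exists. -/
theorem root_excl {u v : Fin 5 → F} (hu : u ∈ units C M) (hv : v ∈ units C M) {a b c d e : Fin 5}
    (h : Five a b c d e) (ha : u a ≠ 0) (hb : u b ≠ 0) (hc : u c = 0) (hd : u d = 0) (he : u e = 0)
    {a' b' c' d' e' : Fin 5} (h' : Five a' b' c' d' e') (va : v a' ≠ 0) (vb : v b' ≠ 0) (vc : v c' ≠ 0)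
    (vd : v d' = 0) (ve : v e' = 0) : False := by
  classical
  -- move the root onto `a', b'`
  have mov : ∀ (x y : Fin 5), x ≠ y → ∃ w ∈ units C M, w x ≠ 0 ∧ w y ≠ 0 ∧ ∀ j, j ≠ x → j ≠ y → w j = 0 := by
    have step : ∀ {x y : Fin 5}, (∃ w ∈ units C M, w x ≠ 0 ∧ w y ≠ 0 ∧ ∀ j, j ≠ x → j ≠ y → w j = 0) →
        ∀ z, z ≠ x → z ≠ y → x ≠ y →
          ∃ w ∈ units C M, w y ≠ 0 ∧ w z ≠ 0 ∧ ∀ j, j ≠ y → j ≠ z → w j = 0 := by
      rintro x y ⟨w, hw, wx, wy, w0⟩ z zx zy xy
      obtain ⟨e1, e2, e3, e4⟩ := cyc3_apply xy zy.symm zx.symm w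
      refine ⟨_, O.cyc_mem hw xy zy.symm zx.symm, by rw [e2]; exact wx, by rw [e3]; exact wy, fun j jy jz => ?_⟩
      by_cases jx : j = x
      · rw [jx, e1]; exact w0 z zx zy
      · rw [e4 j jx jy jz]; exact w0 j jx jy
    have base : ∃ w ∈ units C M, w a ≠ 0 ∧ w b ≠ 0 ∧ ∀ j, j ≠ a → j ≠ b → w j = 0 :=
      ⟨u, hu, ha, hb, fun j ja jb => by
        rcases h.cover j with rfl | rfl | rfl | rfl | rfl <;> first | contradiction | assumption⟩
    intro x y xy
    have sw : ∀ {x y : Fin 5}, (∃ w ∈ units C M, w x ≠ 0 ∧ w y ≠ 0 ∧ ∀ j, j ≠ x → j ≠ y → w j = 0) →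
        ∃ w ∈ units C M, w y ≠ 0 ∧ w x ≠ 0 ∧ ∀ j, j ≠ y → j ≠ x → w j = 0 :=
      fun ⟨w, hw, wx, wy, w0⟩ => ⟨w, hw, wy, wx, fun j p q => w0 j q p⟩
    have one : ∀ x, ∃ y, x ≠ y ∧ ∃ w ∈ units C M, w x ≠ 0 ∧ w y ≠ 0 ∧ ∀ j, j ≠ x → j ≠ y → w j = 0 := by
      intro x
      by_cases hxa : x = a
      · exact ⟨b, hxa ▸ h.ab, hxa ▸ base⟩
      by_cases hxb : x = b
      · exact ⟨a, hxb ▸ h.ab.symm, hxb ▸ sw base⟩
      · exact ⟨b, hxb, sw (step base x hxa hxb h.ab)⟩
    obtain ⟨y', hxy', hw⟩ := one x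
    by_cases hy : y = y'
    · exact hy ▸ hw
    · exact step (sw hw) y hy xy.symm hxy'.symm
  obtain ⟨w, hw, wa, wb, w0⟩ := mov a' b' h'.ab
  obtain ⟨-, -, hP⟩ := pair_root O h3 hS hw h' wa wb (w0 _ h'.ac.symm h'.bc.symm) (w0 _ h'.ad.symm h'.bd.symm)
    (w0 _ h'.ae.symm h'.be.symm)
  exact hP (three_geo O h3 hS hv h' va vb vc vd ve).2.1

end Five

end Cfsg.Agent.C6Units
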