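import Cfsg.Agent.C6Units.Clifford
import Cfsg.Agent.Lib.Dickson.Main
import Cfsg.Agent.Lib.Dickson.Tori

/-!
The even part of a triple: either every quaternion of norm one is in the group, or the elements have
the traces of the binary polyhedral groups (helper32).
-/

set_option autoImplicit false
set_option linter.unusedSectionVars false
set_option linter.style.haveILetI false
set_option linter.unusedSimpArgs false

namespace Cfsg.Agent.C6Units

open Matrix
open scoped MatrixGroups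

section Quat

variable {F : Type*} [Field F]

/-- The product of quaternions. -/
def qmul (q r : Fin 4 → F) : Fin 4 → F :=
  ![q 0 * r 0 - q 1 * r 1 - q 2 * r 2 - q 3 * r 3, q 0 * r 1 + q 1 * r 0 + q 2 * r 3 - q 3 * r 2,
    q 0 * r 2 - q 1 * r 3 + q 2 * r 0 + q 3 * r 1, q 0 * r 3 + q 1 * r 2 - q 2 * r 1 + q 3 * r 0]

/-- The norm of a quaternion. -/
def qnorm (q : Fin 4 → F) : F := q 0 * q 0 + q 1 * q 1 + q 2 * q 2 + q 3 * q 3

theorem qnorm_mul (q r : Fin 4 → F) : qnorm (qmul q r) = qnorm q * qnorm r := by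
  simp [qnorm, qmul]; ring

/-- The conjugate quaternion. -/
def qconj (q : Fin 4 → F) : Fin 4 → F := ![q 0, -q 1, -q 2, -q 3]

theorem qmul_conj (q : Fin 4 → F) : qmul q (qconj q) = ![qnorm q, 0, 0, 0] := by
  funext i; fin_cases i <;> simp [qnorm, qmul, qconj] <;> ring

variable {A : Type*} [Ring A] [Algebra F A]

/-- The value of a quaternion on `I`, `J`. -/
def Qa (I J : A) (q : Fin 4 → F) : A := q 0 • (1 : A) + q 1 • I + q 2 • J + q 3 • (I * J)

theorem Qa_mul {I J : A} (hI : I * I = -1) (hJ : J * J = -1) (hJI : J * I = -(I * J)) (q r : Fin 4 → F) :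
    Qa I J q * Qa I J r = Qa I J (qmul q r) := by
  have a1 : ∀ X, I * (I * X) = -X := fun X => by rw [← mul_assoc, hI, neg_one_mul]
  have a2 : ∀ X, J * (J * X) = -X := fun X => by rw [← mul_assoc, hJ, neg_one_mul]
  have a3 : ∀ X, J * (I * X) = -(I * (J * X)) := fun X => by rw [← mul_assoc, hJI, neg_mul, mul_assoc]
  simp only [Qa, add_mul, mul_add, smul_mul_assoc, mul_smul_comm, one_mul, mul_one, mul_assoc, hI, hJ, hJI,
    a1, a2, a3, mul_neg, neg_neg, smul_smul, smul_neg]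
  simp only [qmul, Matrix.cons_val_zero, Matrix.cons_val_one, Matrix.cons_val]
  module

end Quat

section Two

variable {F : Type*} [Field F]

/-- The model of the quaternions by two by two matrices. -/
def m2 (x y : F) (q : Fin 4 → F) : Matrix (Fin 2) (Fin 2) F :=
  Qa !![0, -1; 1, 0] !![x, y; y, -x] q

theorem m2_eq (x y : F) (q : Fin 4 → F) :
    m2 x y q = !![q 0 + x * q 2 - y * q 3, -q 1 + y * q 2 + x * q 3;
      q 1 + y * q 2 + x * q 3, q 0 - x * q 2 + y * q 3] := by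
  ext i j
  fin_cases i <;> fin_cases j <;> simp [m2, Qa, Matrix.mul_apply, Fin.sum_univ_two] <;> ring

variable {x y : F}

theorem m2_mul (h : x * x + y * y = -1) (q r : Fin 4 → F) : m2 x y q * m2 x y r = m2 x y (qmul q r) := by
  refine Qa_mul ?_ ?_ ?_ q r
  · ext i j; fin_cases i <;> fin_cases j <;> simp [Matrix.mul_apply, Fin.sum_univ_two]
  · ext i j; fin_cases i <;> fin_cases j <;> simp [Matrix.mul_apply, Fin.sum_univ_two] <;>
      first | linear_combination h | ring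
  · ext i j; fin_cases i <;> fin_cases j <;> simp [Matrix.mul_apply, Fin.sum_univ_two]

theorem det_m2 (h : x * x + y * y = -1) (q : Fin 4 → F) : (m2 x y q).det = qnorm q := by
  rw [m2_eq, Matrix.det_fin_two_of, qnorm]
  linear_combination (-(q 2 * q 2) - q 3 * q 3) * h

theorem trace_m2 (q : Fin 4 → F) : (m2 x y q).trace = 2 * q 0 := by
  rw [m2_eq, Matrix.trace_fin_two_of]; ring

theorem m2_surj (h2 : (2 : F) ≠ 0) (h : x * x + y * y = -1) (A : Matrix (Fin 2) (Fin 2) F) :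
    ∃ q, m2 x y q = A := by
  refine ⟨![(A 0 0 + A 1 1) / 2, (A 1 0 - A 0 1) / 2, -(x * (A 0 0 - A 1 1) + y * (A 0 1 + A 1 0)) / 2,
    -(x * (A 0 1 + A 1 0) - y * (A 0 0 - A 1 1)) / 2], ?_⟩
  rw [m2_eq, Matrix.eta_fin_two A]
  ext i j
  fin_cases i <;> fin_cases j <;> simp <;> field_simp
  · linear_combination -(A 0 0 - A 1 1) * h
  · linear_combination -(A 0 1 + A 1 0) * h
  · linear_combination -(A 0 1 + A 1 0) * h
  · linear_combination (A 0 0 - A 1 1) * h

theorem m2_inj (h2 : (2 : F) ≠ 0) (h : x * x + y * y = -1) {q r : Fin 4 → F} (e : m2 x y q = m2 x y r) :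
    q = r := by
  rw [m2_eq, m2_eq] at e
  have e00 := congrFun (congrFun e 0) 0
  have e01 := congrFun (congrFun e 0) 1
  have e10 := congrFun (congrFun e 1) 0
  have e11 := congrFun (congrFun e 1) 1
  simp at e00 e01 e10 e11
  funext i
  refine mul_left_cancel₀ h2 ?_
  fin_cases i <;> simp only [Fin.zero_eta, Fin.mk_one, Fin.isValue, Fin.reduceFinMk]
  · linear_combination e00 + e11
  · linear_combination e10 - e01
  · linear_combination -(x * (e00 - e11) + y * (e01 + e10)) + (2 * q 2 - 2 * r 2) * h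
  · linear_combination -(x * (e01 + e10) - y * (e00 - e11)) + (2 * q 3 - 2 * r 3) * h

/-- Powers of a matrix of determinant one that are scalars. -/
theorem trace_of_pow {A : Matrix (Fin 2) (Fin 2) F} {τ e : F} (hA : A * A = τ • A - 1)
    (hns : ∀ c : F, A ≠ c • 1) :
    (A ^ 2 = e • 1 → τ = 0) ∧ (A ^ 3 = e • 1 → τ * τ = 1) ∧
      (A ^ 4 = e • 1 → τ = 0 ∨ τ * τ = 2) ∧ (A ^ 5 = e • 1 → τ ^ 4 - 3 * (τ * τ) + 1 = 0) := by
  have key : ∀ a b : F, a • A = b • (1 : Matrix (Fin 2) (Fin 2) F) → a = 0 := fun a b h => by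
    by_contra ha
    exact hns (a⁻¹ * b) (by rw [mul_smul, ← h, inv_smul_smul₀ ha])
  have h3 : A ^ 3 = (τ * τ - 1) • A - τ • 1 := by
    rw [pow_succ, pow_two, hA, sub_mul, Matrix.smul_mul, hA, one_mul]; module
  have h4 : A ^ 4 = (τ * τ * τ - 2 * τ) • A - (τ * τ - 1) • 1 := by
    rw [pow_succ, h3, sub_mul, Matrix.smul_mul, hA, Matrix.smul_mul, one_mul]; module
  have h5 : A ^ 5 = (τ ^ 4 - 3 * (τ * τ) + 1) • A - (τ * τ * τ - 2 * τ) • 1 := by
    rw [pow_succ, h4, sub_mul, Matrix.smul_mul, hA, Matrix.smul_mul, one_mul]; module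
  refine ⟨fun h => key _ (e + 1) ?_, fun h => sub_eq_zero.mp (key _ (e + τ) ?_), fun h => ?_,
    fun h => key _ (e + (τ * τ * τ - 2 * τ)) ?_⟩
  · rw [pow_two, hA] at h; rw [add_smul e, one_smul, ← h]; abel
  · rw [h3] at h; rw [add_smul e, ← h]; abel
  · rw [h4] at h
    have := key (τ * τ * τ - 2 * τ) (e + (τ * τ - 1)) (by rw [add_smul e, ← h]; abel)
    rcases mul_eq_zero.mp (show τ * (τ * τ - 2) = 0 by linear_combination this) with h0 | h0
    · exact Or.inl h0
    · exact Or.inr (sub_eq_zero.mp h0)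
  · rw [h5] at h; rw [add_smul e, ← h]; abel

theorem sq_eq {A : Matrix (Fin 2) (Fin 2) F} (h : A.det = 1) : A * A = A.trace • A - 1 := by
  rw [Matrix.det_fin_two] at h
  ext i j
  fin_cases i <;> fin_cases j <;>
    simp [Matrix.mul_apply, Fin.sum_univ_two, Matrix.trace_fin_two] <;>
    first | linear_combination -h | linear_combination h | ring

end Two

theorem pow_pull {G K : Type*} [Group G] [Group K] {H : Subgroup G} (e : H ≃* K) {g : G} (hg : g ∈ H) {k : ℕ}
    (h : e ⟨g, hg⟩ ^ k = 1) : g ^ k = 1 := by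
  rw [← map_pow] at h
  exact congrArg Subtype.val (e.injective (h.trans (map_one e).symm))

theorem alt_four_orders : ∀ g : alternatingGroup (Fin 4), g ^ 2 = 1 ∨ g ^ 3 = 1 := by decide +kernel

theorem sym_four_orders : ∀ g : Equiv.Perm (Fin 4), g ^ 3 = 1 ∨ g ^ 4 = 1 := by decide +kernel

theorem alt_five_orders : ∀ g : alternatingGroup (Fin 5), g ^ 2 = 1 ∨ g ^ 3 = 1 ∨ g ^ 5 = 1 := by
  decide +kernel

section Main

variable {F : Type*} [Field F] {n : ℕ} {ι : Type*} [Fintype ι] [DecidableEq ι]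

/-- The quaternion `q` of the triple `a`, `b`, `c` lies in `M`. -/
def InM (C : Cl F n ι) (M : Subgroup (GL ι F)) (a b c : Fin n) (q : Fin 4 → F) : Prop :=
  ∃ g ∈ M, (g : Matrix ι ι F) = Qa (C.G a * C.G b) (C.G b * C.G c) q

variable {C : Cl F n ι} {M : Subgroup (GL ι F)} {a b c : Fin n}

theorem triple_rel (hab : a ≠ b) (hbc : b ≠ c) (hac : a ≠ c) :
    C.G a * C.G b * (C.G a * C.G b) = -1 ∧ C.G b * C.G c * (C.G b * C.G c) = -1 ∧
      C.G b * C.G c * (C.G a * C.G b) = -(C.G a * C.G b * (C.G b * C.G c)) := by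
  have sqI : ∀ {i j : Fin n}, i ≠ j → C.G i * C.G j * (C.G i * C.G j) = -1 := fun {i j} h => by
    rw [mul_assoc, ← mul_assoc (C.G j), C.anti j i h.symm, neg_mul, mul_assoc (C.G i), C.sq, mul_one,
      mul_neg, C.sq]
  refine ⟨sqI hab, sqI hbc, ?_⟩
  rw [mul_assoc (C.G b), ← mul_assoc (C.G c), C.anti c a hac.symm, neg_mul, mul_neg, mul_assoc (C.G a) (C.G c),
    C.anti c b hbc.symm, mul_neg, mul_neg, neg_neg, ← mul_assoc, C.anti b a hab.symm, neg_mul, mul_assoc (C.G a)]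

theorem InM.mul (hab : a ≠ b) (hbc : b ≠ c) (hac : a ≠ c) {q r : Fin 4 → F} (hq : InM C M a b c q)
    (hr : InM C M a b c r) : InM C M a b c (qmul q r) := by
  obtain ⟨g, hg, eg⟩ := hq
  obtain ⟨h, hh, eh⟩ := hr
  obtain ⟨h1, h2, h3⟩ := triple_rel (C := C) hab hbc hac
  exact ⟨g * h, mul_mem hg hh, by rw [Units.val_mul, eg, eh, Qa_mul h1 h2 h3]⟩

theorem InM.conj (hab : a ≠ b) (hbc : b ≠ c) (hac : a ≠ c) {q : Fin 4 → F} (hq : InM C M a b c q)
    (hn : qnorm q = 1) : InM C M a b c (qconj q) := by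
  obtain ⟨g, hg, eg⟩ := hq
  obtain ⟨h1, h2, h3⟩ := triple_rel (C := C) hab hbc hac
  refine ⟨g⁻¹, inv_mem hg, Units.inv_eq_of_mul_eq_one_right ?_⟩
  rw [eg, Qa_mul h1 h2 h3, qmul_conj, hn]
  simp [Qa]

variable [Fintype F]

theorem inM_omega (O : Over C M) (hab : a ≠ b) (hbc : b ≠ c) (hac : a ≠ c) :
    InM C M a b c ![(2 : F)⁻¹, 2⁻¹, 2⁻¹, 2⁻¹] := by
  obtain ⟨g, hg, eg⟩ := O.cyc a b c hab hbc hac
  refine ⟨g, hg, eg.trans ?_⟩
  simp only [Qa, Matrix.cons_val_zero, Matrix.cons_val_one, Matrix.cons_val, add_mul, mul_add, one_mul,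
    mul_one, smul_add]
  abel

theorem inM_unitI (O : Over C M) : InM C M a b c ![0, 1, 0, 0] := by
  obtain ⟨g, hg, eg⟩ := O.mem a
  obtain ⟨h, hh, eh⟩ := O.mem b
  exact ⟨g * h, mul_mem hg hh, by simp [Qa, eg, eh]⟩

theorem inM_unitJ (O : Over C M) : InM C M a b c ![0, 0, 1, 0] := by
  obtain ⟨g, hg, eg⟩ := O.mem b
  obtain ⟨h, hh, eh⟩ := O.mem c
  exact ⟨g * h, mul_mem hg hh, by simp [Qa, eg, eh]⟩

/-- Every quaternion of norm one of the triple lies in `M`. -/
def BigTriple (C : Cl F n ι) (M : Subgroup (GL ι F)) (a b c : Fin n) : Prop :=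
  ∀ q, qnorm q = 1 → InM C M a b c q

/-- The trace condition of a small triple. -/
def SmallTr (C : Cl F n ι) (M : Subgroup (GL ι F)) (a b c : Fin n) (P : F → Prop) : Prop :=
  ∀ q, qnorm q = 1 → InM C M a b c q → (q 1 ≠ 0 ∨ q 2 ≠ 0 ∨ q 3 ≠ 0) → P ((2 * q 0) * (2 * q 0))

set_option maxHeartbeats 1000000 in
open Cfsg.Agent.Dickson in
/-- **The triple dichotomy.** -/
theorem triple_cases {p : ℕ} [Fact p.Prime] [CharP F p] (hF : Fintype.card F = p) (O : Over C M)
    (hab : a ≠ b) (hbc : b ≠ c) (hac : a ≠ c) :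
    BigTriple C M a b c ∨ SmallTr C M a b c (fun y => y = 0 ∨ y = 1 ∨ y = 2) ∨
      (p ≠ 5 ∧ SmallTr C M a b c (fun y => y = 0 ∨ y = 1 ∨ y * y - 3 * y + 1 = 0)) := by
  classical
  have h2 := C.h2
  obtain ⟨x, y, hxy⟩ : ∃ x y : F, x * x + y * y = -1 := by
    haveI : NeZero p := ⟨(Fact.out : p.Prime).ne_zero⟩
    obtain ⟨u, v, huv⟩ := CharP.sq_add_sq F p (-1)
    exact ⟨u, v, by push_cast at huv; linear_combination huv⟩
  obtain ⟨r1, r2, r3⟩ := triple_rel (C := C) hab hbc hac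
  let L : Subgroup SL(2, F) :=
    { carrier := {A | ∃ q, m2 x y q = A.1 ∧ InM C M a b c q}
      one_mem' := ⟨![1, 0, 0, 0], by simp [m2, Qa], 1, one_mem _, by simp [Qa]⟩
      mul_mem' := by
        rintro A B ⟨q, hq, hq'⟩ ⟨r, hr, hr'⟩
        exact ⟨qmul q r, by rw [← m2_mul hxy, hq, hr]; rfl, hq'.mul hab hbc hac hr'⟩
      inv_mem' := by
        rintro A ⟨q, hq, hq'⟩
        have hn : qnorm q = 1 := by rw [← det_m2 hxy, hq, A.2]
        refine ⟨qconj q, ?_, hq'.conj hab hbc hac hn⟩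
        rw [Matrix.SpecialLinearGroup.coe_inv, ← hq, m2_eq, m2_eq, Matrix.adjugate_fin_two_of]
        ext i j
        fin_cases i <;> fin_cases j <;> simp [qconj] <;> ring }
  have memL : ∀ q, qnorm q = 1 → ∀ A : SL(2, F), A.1 = m2 x y q → (A ∈ L ↔ InM C M a b c q) :=
    fun q _ A hA => ⟨fun ⟨r, hr, hr'⟩ => by rwa [← m2_inj h2 hxy (hr.trans hA)], fun h => ⟨q, hA.symm, h⟩⟩
  set H : Subgroup (PSL2 F) := L.map (QuotientGroup.mk' _) with hH
  have hnegL : (-1 : SL(2, F)) ∈ L := by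
    obtain ⟨g, hg, eg⟩ := inM_unitI (a := a) (b := b) (c := c) O
    refine ⟨qmul ![0, 1, 0, 0] ![0, 1, 0, 0], ?_, (inM_unitI O).mul hab hbc hac (inM_unitI O)⟩
    rw [m2_eq]
    ext i j
    fin_cases i <;> fin_cases j <;> simp [qmul]
  have topL : H = ⊤ → BigTriple C M a b c := by
    intro htop q hq
    let A : SL(2, F) := ⟨m2 x y q, by rw [det_m2 hxy, hq]⟩
    have hA : (QuotientGroup.mk A : PSL2 F) ∈ H := htop ▸ Subgroup.mem_top _
    obtain ⟨B, hB, e⟩ := Subgroup.mem_map.mp hA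
    rcases mk_eq_mk_iff.mp e with h | h
    · exact (memL q hq A rfl).mp (h ▸ hB)
    · exact (memL q hq A rfl).mp (by
        rw [show A = -1 * B by rw [h, mul_neg, neg_mul, one_mul, neg_neg]]
        exact mul_mem hnegL hB)
  -- the three distinguished elements
  have mk' : ∀ q, qnorm q = 1 → InM C M a b c q →
      ∃ A : SL(2, F), A.1 = m2 x y q ∧ A ∈ L := fun q hq h =>
    ⟨⟨m2 x y q, by rw [det_m2 hxy, hq]⟩, rfl, (memL q hq _ rfl).mpr h⟩
  obtain ⟨I, hI, hIL⟩ := mk' ![0, 1, 0, 0] (by simp [qnorm]) (inM_unitI O)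
  obtain ⟨J, hJ, hJL⟩ := mk' ![0, 0, 1, 0] (by simp [qnorm]) (inM_unitJ O)
  obtain ⟨W, hW, hWL⟩ := mk' ![(2 : F)⁻¹, 2⁻¹, 2⁻¹, 2⁻¹] (by simp [qnorm]; field_simp; ring)
    (inM_omega O hab hbc hac)
  have val : ∀ {A B : SL(2, F)} {q r : Fin 4 → F}, A.1 = m2 x y q → B.1 = m2 x y r →
      (A * B).1 = m2 x y (qmul q r) := fun hA hB => by
    rw [Matrix.SpecialLinearGroup.coe_mul, hA, hB, m2_mul hxy]
  have valneg : ∀ {A : SL(2, F)} {q : Fin 4 → F}, A.1 = m2 x y q → (-A).1 = m2 x y (-q) := fun hA => by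
    rw [Matrix.SpecialLinearGroup.coe_neg, hA, m2_eq, m2_eq]
    ext i j; fin_cases i <;> fin_cases j <;> simp <;> ring
  have ext2 : ∀ {A B : SL(2, F)} {q r : Fin 4 → F}, A.1 = m2 x y q → B.1 = m2 x y r → q = r → A = B :=
    fun hA hB h => Subtype.ext (by rw [hA, hB, h])
  have hJI : J * I = -(I * J) := ext2 (val hJ hI) (valneg (val hI hJ)) (by
    funext k; fin_cases k <;> simp [qmul])
  have hWI : W * I = J * W := ext2 (val hW hI) (val hJ hW) (by funext k; fin_cases k <;> simp [qmul])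
  have hWJ : W * J = I * J * W := ext2 (val hW hJ) (val (val hI hJ) hW) (by funext k; fin_cases k <;> simp [qmul])
  set i : PSL2 F := QuotientGroup.mk I
  set j : PSL2 F := QuotientGroup.mk J
  set w : PSL2 F := QuotientGroup.mk W
  have hiH : i ∈ H := Subgroup.mem_map_of_mem _ hIL
  have hjH : j ∈ H := Subgroup.mem_map_of_mem _ hJL
  have hwH : w ∈ H := Subgroup.mem_map_of_mem _ hWL
  have hji : j * i = i * j := by
    show QuotientGroup.mk (J * I) = QuotientGroup.mk (I * J)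
    exact mk_eq_mk_iff.mpr (Or.inr hJI)
  have hwi : w * i = j * w := congrArg QuotientGroup.mk hWI
  have hwj : w * j = i * j * w := congrArg QuotientGroup.mk hWJ
  have hi1 : i ≠ 1 := fun e => by
    rcases mk_eq_mk_iff.mp (show (QuotientGroup.mk I : PSL2 F) = QuotientGroup.mk (1 : SL(2, F)) from e) with h | h
    all_goals
      have h' := congrFun (congrFun (congrArg Subtype.val h) 1) 0
      rw [hI, m2_eq] at h'
      simp at h'
  have hj1 : j ≠ 1 := fun e => hi1 (by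
    have := hwi
    rwa [e, one_mul, mul_eq_left] at this)
  have hij : i ≠ j := fun e => hi1 (by
    have h := hwj
    rw [← e, hwi, ← e, mul_assoc] at h
    exact mul_eq_left.mp (mul_right_cancel ((mul_assoc i i w).trans h.symm)))
  have hw1 : w ≠ 1 := fun e => hij (by rw [e, one_mul, mul_one] at hwi; exact hwi)
  have hw3 : w ^ 3 = 1 := by
    have hWW := val (val hW hW) hW
    have : W * W * W = -1 := Subtype.ext (by
      rw [hWW, m2_eq]
      ext k l
      fin_cases k <;> fin_cases l <;> simp [qmul] <;> field_simp <;> ring)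
    rw [pow_succ, pow_two]
    show (QuotientGroup.mk (W * W * W) : PSL2 F) = QuotientGroup.mk 1
    exact mk_eq_mk_iff.mpr (Or.inr this)
  -- element orders give the traces
  have traces : ∀ {P : F → Prop}, (∀ g ∈ H, ∀ A : SL(2, F), (QuotientGroup.mk A : PSL2 F) = g →
      (∀ c : F, A.1 ≠ c • 1) → P (A.1.trace * A.1.trace)) → SmallTr C M a b c P := by
    intro P h q hq hqM hns
    obtain ⟨A, hA, hAL⟩ := mk' q hq hqM
    have := h _ (Subgroup.mem_map_of_mem _ hAL) A rfl fun c hc => by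
      rw [hA] at hc
      have e : m2 x y q = m2 x y ![c, 0, 0, 0] := by rw [hc]; simp [m2, Qa]
      have := m2_inj h2 hxy e
      rw [this] at hns
      simp at hns
    rwa [hA, trace_m2] at this
  have powE : ∀ {A : SL(2, F)} {k : ℕ}, ((QuotientGroup.mk A : PSL2 F)) ^ k = 1 → ∃ e : F, A.1 ^ k = e • 1 := by
    intro A k h
    rw [← QuotientGroup.mk_pow] at h
    rcases mk_eq_mk_iff.mp (show (QuotientGroup.mk (A ^ k) : PSL2 F) = QuotientGroup.mk (1 : SL(2, F)) from h) with e | e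
    · exact ⟨1, by rw [one_smul, ← Matrix.SpecialLinearGroup.coe_pow, e]; rfl⟩
    · exact ⟨-1, by rw [← Matrix.SpecialLinearGroup.coe_pow, e]; simp⟩
  have big : ∀ T : Subfield F, 3 ≤ Nat.card T → T = ⊤ := fun T hT => by
    refine SetLike.coe_injective (Set.eq_univ_of_univ_subset ?_)
    intro z _
    obtain ⟨m, hm⟩ : ∃ m : ℕ, (m : F) = z := by
      obtain ⟨u, rfl⟩ := (ZMod.castHom_bijective (n := p) F hF).2 z
      exact ⟨u.val, by rw [← map_natCast (ZMod.castHom (dvd_refl p) F), ZMod.natCast_zmod_val]⟩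
    exact hm ▸ natCast_mem T m
  rcases kind p H with ⟨k, -, hc, -⟩ | ⟨t, ht⟩ | ⟨k, -, -, ⟨e⟩⟩ | ⟨⟨e⟩⟩ | ⟨⟨e⟩⟩ | ⟨⟨e⟩⟩ | ⟨T, hT, -, hiso⟩
  · exfalso
    haveI := hc
    letI := IsCyclic.commGroup (α := H)
    have := congrArg Subtype.val (mul_comm (⟨w, hwH⟩ : H) ⟨i, hiH⟩)
    simp only [Subgroup.coe_mul] at this
    rw [hwi] at this
    exact hij (mul_right_cancel this).symm
  · exfalso
    obtain ⟨T, rfl⟩ := QuotientGroup.mk_surjective t
    have up : ∀ {A : SL(2, F)}, (QuotientGroup.mk A : PSL2 F) ∈ H → (T * A * T⁻¹).1 1 0 = 0 := fun {A} hA =>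
      (PLocalB.smul_infty_iff (T * A * T⁻¹)).mp (by
        have := ht _ hA
        simpa [← QuotientGroup.mk_mul, ← QuotientGroup.mk_inv, mk_smul] using this)
    have a0 := up hiH
    have b0 := up hjH
    have eij : (T * J * T⁻¹) * (T * I * T⁻¹) = -((T * I * T⁻¹) * (T * J * T⁻¹)) := by
      rw [show T * J * T⁻¹ * (T * I * T⁻¹) = T * (J * I) * T⁻¹ by group, hJI,
        show T * I * T⁻¹ * (T * J * T⁻¹) = T * (I * J) * T⁻¹ by group, mul_neg, neg_mul]
    have e00 := congrFun (congrFun (congrArg Subtype.val eij) 0) 0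
    simp only [Matrix.SpecialLinearGroup.coe_neg, Matrix.neg_apply] at e00
    rw [Matrix.SpecialLinearGroup.coe_mul (T * J * T⁻¹) (T * I * T⁻¹),
      Matrix.SpecialLinearGroup.coe_mul (T * I * T⁻¹) (T * J * T⁻¹), Matrix.mul_apply, Matrix.mul_apply,
      Fin.sum_univ_two, Fin.sum_univ_two, a0, b0, mul_zero, mul_zero, add_zero, add_zero] at e00
    have ha := upper_diag a0
    have hb := upper_diag b0
    have h0 : 2 * ((T * I * T⁻¹).1 0 0 * (T * J * T⁻¹).1 0 0) = 0 := by linear_combination e00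
    simp only [mul_eq_zero, h2, false_or] at h0
    rcases h0 with h0 | h0
    · rw [h0, zero_mul] at ha; exact zero_ne_one ha
    · rw [h0, zero_mul] at hb; exact zero_ne_one hb
  · exfalso
    obtain ⟨mw, hmw⟩ : ∃ m, e ⟨w, hwH⟩ = DihedralGroup.r m := by
      rcases h : e ⟨w, hwH⟩ with m | m
      · exact ⟨m, rfl⟩
      · have h1 : e (⟨w, hwH⟩ * ⟨w, hwH⟩) = e 1 := by rw [map_mul, h, DihedralGroup.sr_mul_self, map_one]
        have h2' := congrArg Subtype.val (e.injective h1)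
        rw [pow_succ, pow_two] at hw3
        simp only [Subgroup.coe_mul, OneMemClass.coe_one] at h2'
        rw [h2', one_mul] at hw3
        exact absurd hw3 hw1
    have comm : ∀ {g : PSL2 F} (hg : g ∈ H) {m}, e ⟨g, hg⟩ = DihedralGroup.r m → w * g = g * w := by
      intro g hg m hm
      have : e (⟨w, hwH⟩ * ⟨g, hg⟩) = e (⟨g, hg⟩ * ⟨w, hwH⟩) := by
        rw [map_mul, map_mul, hmw, hm, DihedralGroup.r_mul_r, DihedralGroup.r_mul_r, add_comm]
      exact congrArg Subtype.val (e.injective this)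
    rcases hi : e ⟨i, hiH⟩ with m | m
    · exact hij (mul_right_cancel ((comm hiH hi).symm.trans hwi))
    rcases hj : e ⟨j, hjH⟩ with m' | m'
    · have := (comm hjH hj).symm.trans hwj
      exact hi1 (mul_eq_right.mp (mul_right_cancel this).symm)
    have hk := comm (mul_mem hiH hjH) (m := m' - m) (by
      rw [show (⟨i * j, mul_mem hiH hjH⟩ : H) = ⟨i, hiH⟩ * ⟨j, hjH⟩ from rfl, map_mul, hi, hj,
        DihedralGroup.sr_mul_sr])
    rw [← mul_assoc w, hwi, mul_assoc j w, hwj, ← mul_assoc j] at hk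
    have h' := mul_right_cancel hk
    rw [← mul_assoc, hji, mul_assoc] at h'
    exact hj1 (mul_eq_left.mp (mul_left_cancel h'))
  · refine Or.inr (Or.inl (traces fun g hg A hA hns => ?_))
    have hcase : g ^ 2 = 1 ∨ g ^ 3 = 1 := (alt_four_orders (e ⟨g, hg⟩)).imp
      (pow_pull e hg) (pow_pull e hg)
    rcases hcase with h | h <;> rw [← hA] at h <;> obtain ⟨ee, he⟩ := powE h
    · exact Or.inl (by rw [(trace_of_pow (sq_eq A.2) hns).1 he, mul_zero])
    · exact Or.inr (Or.inl ((trace_of_pow (sq_eq A.2) hns).2.1 he))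
  · refine Or.inr (Or.inl (traces fun g hg A hA hns => ?_))
    have hcase : g ^ 3 = 1 ∨ g ^ 4 = 1 := (sym_four_orders (e ⟨g, hg⟩)).imp
      (pow_pull e hg) (pow_pull e hg)
    rcases hcase with h | h <;> rw [← hA] at h <;> obtain ⟨ee, he⟩ := powE h
    · exact Or.inr (Or.inl ((trace_of_pow (sq_eq A.2) hns).2.1 he))
    · rcases (trace_of_pow (sq_eq A.2) hns).2.2.1 he with h0 | h0
      · exact Or.inl (by rw [h0, mul_zero])
      · exact Or.inr (Or.inr h0)
  · by_cases h5 : p = 5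
    · refine Or.inl (topL (Subgroup.eq_top_of_card_eq H ?_))
      rw [Nat.card_congr e.toEquiv]
      have hc := card_psl_eq (F := F)
      rw [hF, h5, show Nat.gcd 2 (5 - 1) = 2 from rfl] at hc
      change 2 * Nat.card (PSL2 F) = 120 at hc
      have h60 : Nat.card (alternatingGroup (Fin 5)) = 60 := by
        rw [Nat.card_eq_fintype_card]; decide +kernel
      omega
    refine Or.inr (Or.inr ⟨h5, traces fun g hg A hA hns => ?_⟩)
    have hcase : g ^ 2 = 1 ∨ g ^ 3 = 1 ∨ g ^ 5 = 1 := (alt_five_orders (e ⟨g, hg⟩)).imp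
      (pow_pull e hg) (fun h => h.imp
      (pow_pull e hg) (pow_pull e hg))
    rcases hcase with h | h | h <;> rw [← hA] at h <;> obtain ⟨ee, he⟩ := powE h
    · exact Or.inl (by rw [(trace_of_pow (sq_eq A.2) hns).1 he, mul_zero])
    · exact Or.inr (Or.inl ((trace_of_pow (sq_eq A.2) hns).2.1 he))
    · exact Or.inr (Or.inr (by linear_combination (trace_of_pow (sq_eq A.2) hns).2.2.2 he))
  · refine Or.inl (topL (Subgroup.eq_top_of_le_card H ?_))
    obtain rfl := big T hT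
    haveI : Fintype (⊤ : Subfield F) := Fintype.ofFinite _
    have ec : Fintype.card (⊤ : Subfield F) = Fintype.card F :=
      Fintype.card_congr (Equiv.subtypeUnivEquiv fun _ => Subfield.mem_top _)
    have h1 := card_psl_eq (F := (⊤ : Subfield F))
    have h2' := card_psl_eq (F := F)
    rw [ec] at h1
    have hg0 : 0 < Nat.gcd 2 (Fintype.card F - 1) := Nat.gcd_pos_of_pos_left _ (by norm_num)
    have hcard : Nat.card (PSL2 (⊤ : Subfield F)) = Nat.card (PSL2 F) :=
      Nat.eq_of_mul_eq_mul_left hg0 (h1.trans h2'.symm)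
    rcases hiso with ⟨⟨e⟩⟩ | ⟨⟨e⟩⟩
    · rw [Nat.card_congr e.toEquiv, ← hcard]
    · haveI := Finite.of_equiv _ e.toEquiv
      rw [Nat.card_congr e.toEquiv, ← hcard]
      exact Nat.card_le_card_of_injective _ Matrix.ProjectiveSpecialLinearGroup.toPGL_injective

end Main

end Cfsg.Agent.C6Units
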